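import Groth.Agent.Lib.MultAvg.HomAvg
import Groth.Agent.Lib.SmoothLift.Formal
import Groth.Agent.H87.HomFam

/-!
# Homomorphisms from groups of multiplicative type to smooth groups lift along nilpotent ideals
-/

set_option autoImplicit false
universe u

open CategoryTheory MonoidalCategory CartesianMonoidalCategory MonObj GrpObj AlgebraicGeometry
open CategoryTheory.Limits
open Groth.Agent.H87.HomDS Groth.Agent.H87.HomFam

namespace Groth.Agent.Lib.MultAvg

set_option linter.style.haveILetI false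

variable {S : Scheme.{u}} {H K : Over S} [GrpObj H] [GrpObj K]

/-- The square-zero step. -/
theorem exists_fam_sq (hH : LocSplit H) [Smooth K.hom] {A : CommRingCat.{u}} (t : Spec A ⟶ S)
    (J : Ideal A) (hJ : J ^ 2 = ⊥) (F₀ : Fam H K (Spec.map (mkA J) ≫ t)) :
    ∃ F : Fam H K t, F.res (Spec.map (mkA J)) rfl = F₀ := by
  haveI := isAffineHom_of_locSplit hH
  obtain ⟨d⟩ := exists_coord t H
  obtain ⟨ε, hε⟩ := d.exists_isIntegral hH
  let J' : Ideal d.C := J.map d.inc.hom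
  have hJ' : J' ^ 2 = ⊥ := by rw [← Ideal.map_pow, hJ, Ideal.map_bot]
  let P₀ : Over S := test t (d.inc ≫ mkC d.inc J)
  have hy₀ : Spec.map (inc₀ d.inc J) ≫ Spec.map (mkA J) ≫ t = P₀.hom := by
    show _ = Spec.map (d.inc ≫ mkC d.inc J) ≫ t
    rw [← mkA_inc₀, Spec.map_comp, Category.assoc]
  let f₀ : P₀ ⟶ K := F₀.app P₀ (Spec.map (inc₀ d.inc J)) hy₀ (tmap t (mkC d.inc J) rfl ≫ d.univ)
  obtain ⟨l, hl, hl'⟩ := SmoothLift.Formal.isFormallySmoothHom_of_smooth K.hom d.C J' hJ' f₀.left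
    (Spec.map d.inc ≫ t) (by
      rw [Over.w f₀]
      show Spec.map (mkC d.inc J) ≫ Spec.map d.inc ≫ t = Spec.map (d.inc ≫ mkC d.inc J) ≫ t
      rw [Spec.map_comp, Category.assoc])
  let f : test t d.inc ⟶ K := Over.homMk l hl'
  -- `f` on the points killed by `J`
  have hval : ∀ {D : CommRingCat.{u}} {φ : A ⟶ D} (α : d.C ⟶ D) (h : d.inc ≫ α = φ)
      (β : CommRingCat.of (A ⧸ J) ⟶ D) (hβ : mkA J ≫ β = φ)
      (hy : Spec.map β ≫ Spec.map (mkA J) ≫ t = (test t φ).hom),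
      d.ev f α h = F₀.app (test t φ) (Spec.map β) hy (d.ev d.univ α h) := by
    intro D φ α h β hβ hy
    obtain ⟨α', hα'⟩ : ∃ α' : CommRingCat.of (d.C ⧸ J') ⟶ D, mkC d.inc J ≫ α' = α := by
      refine ⟨CommRingCat.ofHom (Ideal.Quotient.lift J' α.hom fun z hz => ?_),
        CommRingCat.hom_ext (Ideal.Quotient.lift_comp_mk J' α.hom _)⟩
      refine RingHom.mem_ker.mp ((Ideal.map_le_iff_le_comap.mpr fun a ha => ?_) hz)
      rw [Ideal.mem_comap, RingHom.mem_ker]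
      refine (congr((CommRingCat.Hom.hom $(h.trans hβ.symm)) a)).trans ?_
      show β.hom (Ideal.Quotient.mk J a) = 0
      rw [Ideal.Quotient.eq_zero_iff_mem.mpr ha, map_zero]
    have hw : (d.inc ≫ mkC d.inc J) ≫ α' = φ := by rw [Category.assoc, hα', h]
    have hβ' : inc₀ d.inc J ≫ α' = β := by
      refine CommRingCat.hom_ext (Ideal.Quotient.ringHom_ext (RingHom.ext fun a => ?_))
      show α'.hom ((mkC d.inc J).hom (d.inc.hom a)) = β.hom ((mkA J).hom a)
      exact (congr((CommRingCat.Hom.hom $hw) a)).trans (congr((CommRingCat.Hom.hom $hβ) a)).symm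
    let r : test t φ ⟶ P₀ := tmap t α' hw
    have e : d.ev f α h = r ≫ f₀ := by
      apply Over.OverMorphism.ext
      show Spec.map α ≫ l = Spec.map α' ≫ f₀.left
      rw [← hl, ← Spec.map_comp_assoc, hα']
    rw [e, ← F₀.natural r (Spec.map (inc₀ d.inc J)) hy₀ (Spec.map β) hy
      (tmap t (mkC d.inc J) rfl ≫ d.univ) (by rw [← hβ']; exact (Spec.map_comp _ _).symm)]
    congr 1
    rw [← Category.assoc, tmap_tmap, tmap_congr hα']
    rfl
  have hf : d.MulMod J f := by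
    intro D γ hγ
    let β : CommRingCat.of (A ⧸ J) ⟶ D := CommRingCat.ofHom (Ideal.Quotient.lift J (d.inc ≫ d.p₁ ≫ γ).hom hγ)
    have hβ : mkA J ≫ β = d.inc ≫ d.p₁ ≫ γ :=
      CommRingCat.hom_ext (Ideal.Quotient.lift_comp_mk J _ _)
    have hy : Spec.map β ≫ Spec.map (mkA J) ≫ t = (test t (d.inc ≫ d.p₁ ≫ γ)).hom := by
      show _ = Spec.map (d.inc ≫ d.p₁ ≫ γ) ≫ t
      rw [← Spec.map_comp_assoc, hβ]
    rw [hval _ _ β hβ hy, hval _ _ β hβ hy, hval _ _ β hβ hy, ← F₀.mul, ← d.ev_univ_mul γ]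
  obtain ⟨f', hff', hmul'⟩ := d.exists_mulMod_bot hε J hJ f hf
  choose r hr hr' using d.fac
  have hru : ∀ (Y : Over S) (y : Y.left ⟶ Spec A) (hy : y ≫ t = Y.hom) (g : Y ⟶ H)
      (r₁ : Y ⟶ test t d.inc), r₁ ≫ d.univ = g → r₁.left ≫ Spec.map d.inc = y → r Y y hy g = r₁ :=
    fun Y y hy g r₁ h₁ h₂ => Over.OverMorphism.ext (d.pt_ext _ _
      (congrArg CommaMorphism.left ((hr Y y hy g).trans h₁.symm)) ((hr' Y y hy g).trans h₂.symm))
  let F : Fam H K t :=
    { app := fun Y y hy g => r Y y hy g ≫ f'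
      natural := fun {Y Y'} s y hy y' hy' g e => by
        rw [hru Y' y' hy' (s ≫ g) (s ≫ r Y y hy g) (by rw [Category.assoc, hr])
          (by
            show (s.left ≫ (r Y y hy g).left) ≫ _ = _
            rw [Category.assoc, hr', e]), Category.assoc]
      mul := fun Y y hy g g' => by
        apply Over.OverMorphism.ext
        refine ext_affine _ _ fun E s => ?_
        obtain ⟨α, hα⟩ : ∃ α, Spec.map α = s ≫ (r Y y hy g).left := ⟨_, Spec.map_preimage _⟩
        obtain ⟨β, hβ⟩ : ∃ β, Spec.map β = s ≫ (r Y y hy g').left := ⟨_, Spec.map_preimage _⟩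
        obtain ⟨θ, hθ⟩ : ∃ θ, Spec.map θ = s ≫ (r Y y hy (g * g')).left := ⟨_, Spec.map_preimage _⟩
        have hinc : ∀ (r₁ : Y ⟶ test t d.inc) (α₁ : d.C ⟶ E), r₁.left ≫ Spec.map d.inc = y →
            Spec.map α₁ = s ≫ r₁.left → Spec.map (d.inc ≫ α₁) = s ≫ y := fun r₁ α₁ h₁ h₂ => by
          rw [Spec.map_comp, h₂, Category.assoc, h₁]
        have hαy := hinc _ α (hr' Y y hy g) hα
        have hβα : d.inc ≫ β = d.inc ≫ α :=
          Spec.map_injective ((hinc _ β (hr' Y y hy g') hβ).trans hαy.symm)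
        have hθα : d.inc ≫ θ = d.inc ≫ α :=
          Spec.map_injective ((hinc _ θ (hr' Y y hy (g * g')) hθ).trans hαy.symm)
        obtain ⟨γ, hγ₁, hγ₂⟩ := d.exists_pair α β hβα
        subst hγ₁ hγ₂
        let T : test t (d.inc ≫ d.p₁ ≫ γ) ⟶ Y := Over.homMk s (by
          show s ≫ Y.hom = Spec.map (d.inc ≫ d.p₁ ≫ γ) ≫ t
          rw [hαy, ← hy, Category.assoc])
        have hg : ∀ (g₁ : Y ⟶ H) (α₁ : d.C ⟶ E) (h : d.inc ≫ α₁ = d.inc ≫ d.p₁ ≫ γ)
            (_ : Spec.map α₁ = s ≫ (r Y y hy g₁).left) {Z : Over S} (q : test t d.inc ⟶ Z),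
            T ≫ r Y y hy g₁ ≫ q = d.ev q α₁ h := fun g₁ α₁ h h₁ {Z} q => by
          rw [Coord.ev, ← Category.assoc T]
          congr 1
          exact Over.OverMorphism.ext h₁.symm
        have hθm : θ = d.m ≫ γ := by
          refine d.uniq _ _ ?_ (by rw [hθα, reassoc_of% d.wm])
          have h1 : d.ev d.univ θ hθα = d.ev d.univ (d.m ≫ γ) (by rw [reassoc_of% d.wm]) := by
            rw [d.ev_univ_mul, ← hg _ θ hθα hθ, hr, MonObj.comp_mul,
              ← hg g (d.p₁ ≫ γ) rfl hα, ← hg g' (d.p₂ ≫ γ) hβα hβ, hr, hr]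
          exact congrArg CommaMorphism.left h1
        have h1 : T ≫ (r Y y hy (g * g') ≫ f') = T ≫ ((r Y y hy g ≫ f') * (r Y y hy g' ≫ f')) := by
          rw [MonObj.comp_mul, hg _ θ hθα hθ, hg g (d.p₁ ≫ γ) rfl hα, hg g' (d.p₂ ≫ γ) hβα hβ,
            d.ev_congr f' hθm]
          exact hmul' γ fun a ha => by rw [Ideal.mem_bot.mp ha, map_zero]
        exact congrArg CommaMorphism.left h1 }
  refine ⟨F, Fam.ext (funext fun Y => funext fun y₀ => funext fun hy₀' => funext fun g => ?_)⟩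
  apply Over.OverMorphism.ext
  refine ext_affine _ _ fun E s => ?_
  have hy : (y₀ ≫ Spec.map (mkA J)) ≫ t = Y.hom := by rw [Category.assoc, hy₀']
  obtain ⟨α, hα⟩ : ∃ α, Spec.map α = s ≫ (r Y _ hy g).left := ⟨_, Spec.map_preimage _⟩
  obtain ⟨β, hβ⟩ : ∃ β, Spec.map β = s ≫ y₀ := ⟨_, Spec.map_preimage _⟩
  have h : d.inc ≫ α = mkA J ≫ β := Spec.map_injective (by
    rw [Spec.map_comp, Spec.map_comp, hα, hβ, Category.assoc, Category.assoc, hr'])
  let T : test t (mkA J ≫ β) ⟶ Y := Over.homMk s (by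
    show s ≫ Y.hom = Spec.map (mkA J ≫ β) ≫ t
    rw [← hy₀', Spec.map_comp, hβ, Category.assoc, Category.assoc])
  have hTr : T ≫ r Y _ hy g = tmap t α h := Over.OverMorphism.ext hα.symm
  obtain ⟨α', hα'⟩ : ∃ α' : CommRingCat.of (d.C ⧸ J') ⟶ E, mkC d.inc J ≫ α' = α := by
    refine ⟨CommRingCat.ofHom (Ideal.Quotient.lift J' α.hom fun z hz => ?_),
      CommRingCat.hom_ext (Ideal.Quotient.lift_comp_mk J' α.hom _)⟩
    refine RingHom.mem_ker.mp ((Ideal.map_le_iff_le_comap.mpr fun a ha => ?_) hz)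
    rw [Ideal.mem_comap, RingHom.mem_ker]
    refine (congr((CommRingCat.Hom.hom $h) a)).trans ?_
    show β.hom (Ideal.Quotient.mk J a) = 0
    rw [Ideal.Quotient.eq_zero_iff_mem.mpr ha, map_zero]
  have e1 : d.ev f' α h = d.ev f α h := by
    apply Over.OverMorphism.ext
    show Spec.map α ≫ f'.left = Spec.map α ≫ f.left
    rw [← hα', Spec.map_comp_assoc, Spec.map_comp_assoc, hff']
  have hyT : Spec.map β ≫ Spec.map (mkA J) ≫ t = (test t (mkA J ≫ β)).hom := by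
    show _ = Spec.map (mkA J ≫ β) ≫ t
    rw [← Spec.map_comp_assoc]
  have h1 : T ≫ (r Y _ hy g ≫ f') = T ≫ F₀.app Y y₀ hy₀' g := by
    rw [← Category.assoc, hTr]
    show d.ev f' α h = _
    rw [e1, hval α h β rfl hyT, ← F₀.natural T y₀ hy₀' (Spec.map β) hyT g hβ.symm]
    congr 1
    show tmap t α h ≫ d.univ = _
    rw [← hTr, Category.assoc, hr]
  exact congrArg CommaMorphism.left h1

/-- Lifting along a nilpotent kernel. -/
theorem exists_fam_of_pow (hH : LocSplit H) [Smooth K.hom] (k : ℕ) :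
    ∀ {A A₀ : CommRingCat.{u}} (t : Spec A ⟶ S) (π : A ⟶ A₀),
      Function.Surjective π.hom → RingHom.ker π.hom ^ (2 ^ k) = ⊥ →
      ∀ F₀ : Fam H K (Spec.map π ≫ t), ∃ F : Fam H K t, F.res (Spec.map π) rfl = F₀ := by
  induction k with
  | zero =>
    intro A A₀ t π hπ hK F₀
    rw [pow_zero, pow_one] at hK
    haveI : IsIso π :=
      (ConcreteCategory.isIso_iff_bijective π).mpr ⟨(RingHom.injective_iff_ker_eq_bot _).mpr hK, hπ⟩
    refine ⟨F₀.res (Spec.map (inv π))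
      (by rw [← Spec.map_comp_assoc, IsIso.hom_inv_id, Spec.map_id, Category.id_comp]), ?_⟩
    refine Fam.ext (funext fun Y => funext fun y => funext fun hy => funext fun g => ?_)
    refine F₀.app_congr ?_ _ _ _
    rw [Category.assoc, ← Spec.map_comp, IsIso.inv_hom_id, Spec.map_id, Category.comp_id]
  | succ k ih =>
    intro A A₀ t π hπ hK F₀
    obtain ⟨I, hIdef⟩ : ∃ I : Ideal A, I = RingHom.ker π.hom ^ (2 ^ k) := ⟨_, rfl⟩
    have hI : I ^ 2 = ⊥ := by rw [hIdef, ← pow_mul, ← pow_succ]; exact hK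
    have hle : I ≤ RingHom.ker π.hom := hIdef ▸ Ideal.pow_le_self (by positivity)
    obtain ⟨π₁, hπ₁def⟩ : ∃ π₁ : CommRingCat.of (A ⧸ I) ⟶ A₀,
        π₁ = CommRingCat.ofHom (Ideal.Quotient.lift I π.hom hle) := ⟨_, rfl⟩
    have hπ₁ : mkA I ≫ π₁ = π := by
      rw [hπ₁def]
      exact CommRingCat.hom_ext (Ideal.Quotient.lift_comp_mk I π.hom hle)
    have hK₁ : RingHom.ker π₁.hom ^ (2 ^ k) = ⊥ := by
      rw [hπ₁def, CommRingCat.hom_ofHom, Ideal.ker_quotient_lift π.hom hle, ← Ideal.map_pow, ← hIdef]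
      exact Ideal.map_quotient_self I
    have hsurj : Function.Surjective π₁.hom := fun z => by
      obtain ⟨x, hx⟩ := hπ z
      refine ⟨Ideal.Quotient.mk I x, ?_⟩
      rw [hπ₁def]
      exact hx
    subst hπ₁
    obtain ⟨F₁, hF₁⟩ := ih (Spec.map (mkA I) ≫ t) π₁ hsurj hK₁
      (F₀.res (𝟙 (Spec A₀)) (by rw [Category.id_comp, Spec.map_comp, Category.assoc]))
    obtain ⟨F, hF⟩ := exists_fam_sq hH t I hI F₁
    refine ⟨F, Fam.ext (funext fun Y => funext fun y => funext fun hy => funext fun g => ?_)⟩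
    subst hF
    have hy₁ : y ≫ Spec.map π₁ ≫ Spec.map (mkA I) ≫ t = Y.hom := by
      rw [← hy, Spec.map_comp, Category.assoc]
    have h : F.app Y ((y ≫ Spec.map π₁) ≫ Spec.map (mkA I)) _ g = F₀.app Y (y ≫ 𝟙 (Spec A₀)) _ g :=
      congr(($hF₁).app Y y hy₁ g)
    refine Eq.trans ?_ (h.trans (F₀.app_congr (Category.comp_id y) _ _ _))
    refine F.app_congr ?_ _ _ _
    rw [Spec.map_comp, Category.assoc]

/-- **Lifting of homomorphisms into smooth groups.** -/
theorem exists_fam_lift (hH : LocSplit H) [Smooth K.hom] {A : CommRingCat.{u}} (t : Spec A ⟶ S)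
    (J : Ideal A) (hJ : IsNilpotent J) (F₀ : Fam H K (Spec.map (mkA J) ≫ t)) :
    ∃ F : Fam H K t, F.res (Spec.map (mkA J)) rfl = F₀ := by
  obtain ⟨n, hn⟩ := hJ
  refine exists_fam_of_pow hH n t (mkA J) Ideal.Quotient.mk_surjective ?_ F₀
  rw [show RingHom.ker (mkA J).hom = J from Ideal.mk_ker]
  exact le_bot_iff.mp ((Ideal.pow_le_pow_right Nat.lt_two_pow_self.le).trans (le_of_eq hn))

end Groth.Agent.Lib.MultAvg
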