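import Groth.Agent.Lib.MultAvg.Exists
import Groth.Agent.Lib.SmoothLift.Formal

/-!
# Conjugacy of homomorphisms from groups of multiplicative type along nilpotent ideals
-/

set_option autoImplicit false
universe u

open CategoryTheory MonoidalCategory CartesianMonoidalCategory MonObj GrpObj AlgebraicGeometry
open CategoryTheory.Limits
open Groth.Agent.H87.HomDS

namespace Groth.Agent.Lib.MultAvg

set_option linter.style.haveILetI false

variable {S : Scheme.{u}} {H G : Over S} [GrpObj H] [GrpObj G]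

/-- `g` carries `a` to `b` by conjugation. -/
def Rel (a b : H ⟶ G) {X : Over S} (g : X ⟶ G) : Prop :=
  ∀ (Y : Over S) (p : Y ⟶ X) (h : Y ⟶ H), (p ≫ g) * (h ≫ a) * (p ≫ g)⁻¹ = h ≫ b

theorem Rel.restrict {a b : H ⟶ G} {X X' : Over S} {g : X ⟶ G} (h : Rel a b g) (s : X' ⟶ X) :
    Rel a b (s ≫ g) := fun Y p x => by
  rw [← Category.assoc]
  exact h Y (p ≫ s) x

/-- A conjugating element modulo a square-zero ideal which lifts to a point lifts to a conjugating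
element. -/
theorem exists_rel_of_lift (hH : LocSplit H) (a b : H ⟶ G) [IsMonHom a] [IsMonHom b]
    {A : CommRingCat.{u}} (t : Spec A ⟶ S) (J : Ideal A) (hJ : J ^ 2 = ⊥) (ξ : test t (𝟙 A) ⟶ G)
    (h : Rel a b (tmap t (φ := 𝟙 A) (mkA J) (Category.id_comp _) ≫ ξ)) :
    ∃ g : test t (𝟙 A) ⟶ G,
      tmap t (φ := 𝟙 A) (mkA J) (Category.id_comp _) ≫ g =
        tmap t (φ := 𝟙 A) (mkA J) (Category.id_comp _) ≫ ξ ∧ Rel a b g := by
  obtain ⟨d⟩ := exists_intData hH t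
  let act : H ⊗ G ⟶ G :=
    (CartesianMonoidalCategory.fst H G ≫ b) * CartesianMonoidalCategory.snd H G *
      (CartesianMonoidalCategory.fst H G ≫ a)⁻¹
  have hact : ∀ {Y : Over S} (x : Y ⟶ H) (z : Y ⟶ G), lift x z ≫ act = (x ≫ b) * z * (x ≫ a)⁻¹ :=
    fun x z => by
      simp only [act, MonObj.comp_mul, GrpObj.comp_inv, lift_fst_assoc, lift_snd]
  obtain ⟨g, hg, hfix⟩ := exists_fixed d J hJ act
    (fun Y x y z => by rw [hact, hact, hact, MonObj.mul_comp, MonObj.mul_comp]; group) ξ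
    (fun Y p x => by
      rw [hact, ← h Y p x]
      group)
  refine ⟨g, hg, fun Y p x => ?_⟩
  have h1 := hfix Y p x
  rw [hact] at h1
  calc (p ≫ g) * (x ≫ a) * (p ≫ g)⁻¹
      = (x ≫ b) * (p ≫ g) * (x ≫ a)⁻¹ * (x ≫ a) * (p ≫ g)⁻¹ := by rw [h1]
    _ = x ≫ b := by group

/-- The square-zero step for a smooth group. -/
theorem exists_rel_of_sq (hH : LocSplit H) [Smooth G.hom] (a b : H ⟶ G) [IsMonHom a] [IsMonHom b]
    {A : CommRingCat.{u}} (t : Spec A ⟶ S) (J : Ideal A) (hJ : J ^ 2 = ⊥)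
    (g₀ : test t (mkA J) ⟶ G) (h : Rel a b g₀) :
    ∃ g : test t (𝟙 A) ⟶ G, tmap t (φ := 𝟙 A) (mkA J) (Category.id_comp _) ≫ g = g₀ ∧ Rel a b g := by
  obtain ⟨l, hl, hl'⟩ := SmoothLift.Formal.isFormallySmoothHom_of_smooth G.hom A J hJ g₀.left t
    (Over.w g₀).symm
  let ξ : test t (𝟙 A) ⟶ G := Over.homMk l (by simpa using hl')
  have hξ : tmap t (φ := 𝟙 A) (mkA J) (Category.id_comp _) ≫ ξ = g₀ := Over.OverMorphism.ext hl
  obtain ⟨g, hg, hrel⟩ := exists_rel_of_lift hH a b t J hJ ξ (by rw [hξ]; exact h)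
  exact ⟨g, hg.trans hξ, hrel⟩

/-- Lifting of conjugating elements along a nilpotent kernel. -/
theorem exists_rel_of_pow (hH : LocSplit H) [Smooth G.hom] (a b : H ⟶ G) [IsMonHom a] [IsMonHom b]
    (k : ℕ) : ∀ {A A₀ : CommRingCat.{u}} (t : Spec A ⟶ S) (π : A ⟶ A₀),
      Function.Surjective π.hom → RingHom.ker π.hom ^ (2 ^ k) = ⊥ →
      ∀ g₀ : test t π ⟶ G, Rel a b g₀ →
        ∃ g : test t (𝟙 A) ⟶ G, tmap t (φ := 𝟙 A) π (Category.id_comp _) ≫ g = g₀ ∧ Rel a b g := by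
  induction k with
  | zero =>
    intro A A₀ t π hπ hK g₀ h
    rw [pow_zero, pow_one] at hK
    haveI : IsIso π :=
      (ConcreteCategory.isIso_iff_bijective π).mpr ⟨(RingHom.injective_iff_ker_eq_bot _).mpr hK, hπ⟩
    refine ⟨tmap t (φ := π) (φ' := 𝟙 A) (inv π) (IsIso.hom_inv_id π) ≫ g₀, ?_, h.restrict _⟩
    rw [← Category.assoc]
    refine (congrArg (· ≫ g₀) ?_).trans (Category.id_comp g₀)
    apply Over.OverMorphism.ext
    show Spec.map π ≫ Spec.map (inv π) = 𝟙 _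
    rw [← Spec.map_comp, IsIso.inv_hom_id, Spec.map_id]
  | succ k ih =>
    intro A A₀ t π hπ hK g₀ h
    obtain ⟨I, hIdef⟩ : ∃ I : Ideal A, I = RingHom.ker π.hom ^ (2 ^ k) := ⟨_, rfl⟩
    have hI : I ^ 2 = ⊥ := by rw [hIdef, ← pow_mul, ← pow_succ]; exact hK
    have hle : I ≤ RingHom.ker π.hom := hIdef ▸ Ideal.pow_le_self (by positivity)
    obtain ⟨π₁, hπ₁def⟩ : ∃ π₁ : CommRingCat.of (A ⧸ I) ⟶ A₀,
        π₁ = CommRingCat.ofHom (Ideal.Quotient.lift I π.hom hle) := ⟨_, rfl⟩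
    have hπ₁ : mkA I ≫ π₁ = π := by
      rw [hπ₁def]
      exact CommRingCat.hom_ext (Ideal.Quotient.lift_comp_mk I π.hom hle)
    have hK₁ : RingHom.ker π₁.hom ^ (2 ^ k) = ⊥ := by
      rw [hπ₁def, CommRingCat.hom_ofHom, Ideal.ker_quotient_lift π.hom hle, ← Ideal.map_pow, ← hIdef]
      exact Ideal.map_quotient_self I
    let t₁ : Spec (CommRingCat.of (A ⧸ I)) ⟶ S := Spec.map (mkA I) ≫ t
    let c₀ : test t₁ π₁ ⟶ test t π := Over.homMk (𝟙 _) (by
      show 𝟙 _ ≫ Spec.map π ≫ t = Spec.map π₁ ≫ Spec.map (mkA I) ≫ t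
      rw [Category.id_comp, ← Spec.map_comp_assoc, hπ₁])
    have hsurj : Function.Surjective π₁.hom := fun z => by
      obtain ⟨x, hx⟩ := hπ z
      refine ⟨Ideal.Quotient.mk I x, ?_⟩
      rw [hπ₁def]
      exact hx
    obtain ⟨g₁, hg₁, hrel₁⟩ := ih t₁ π₁ hsurj hK₁ (c₀ ≫ g₀) (h.restrict c₀)
    let c₁ : test t (mkA I) ⟶ test t₁ (𝟙 (CommRingCat.of (A ⧸ I))) := Over.homMk (𝟙 (Spec (CommRingCat.of (A ⧸ I)))) (by
      simp [t₁])
    obtain ⟨g, hg, hrel⟩ := exists_rel_of_sq hH a b t I hI (c₁ ≫ g₁) (hrel₁.restrict c₁)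
    refine ⟨g, ?_, hrel⟩
    apply Over.OverMorphism.ext
    have e1 : Spec.map (mkA I) ≫ g.left = 𝟙 _ ≫ g₁.left := congrArg CommaMorphism.left hg
    have e2 : Spec.map π₁ ≫ g₁.left = 𝟙 _ ≫ g₀.left := congrArg CommaMorphism.left hg₁
    show Spec.map π ≫ g.left = g₀.left
    calc Spec.map π ≫ g.left = Spec.map π₁ ≫ Spec.map (mkA I) ≫ g.left := by
          rw [← Spec.map_comp_assoc, hπ₁]
      _ = g₀.left := by rw [e1, Category.id_comp, e2, Category.id_comp]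

/-- **Lifting of conjugating elements.** -/
theorem exists_rel_lift (hH : LocSplit H) [Smooth G.hom] (a b : H ⟶ G) [IsMonHom a] [IsMonHom b]
    {A : CommRingCat.{u}} (t : Spec A ⟶ S) (J : Ideal A) (hJ : IsNilpotent J)
    (g₀ : test t (mkA J) ⟶ G) (h : Rel a b g₀) :
    ∃ g : test t (𝟙 A) ⟶ G, tmap t (φ := 𝟙 A) (mkA J) (Category.id_comp _) ≫ g = g₀ ∧ Rel a b g := by
  obtain ⟨n, hn⟩ := hJ
  refine exists_rel_of_pow hH a b n t (mkA J) Ideal.Quotient.mk_surjective ?_ g₀ h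
  rw [show RingHom.ker (mkA J).hom = J from Ideal.mk_ker]
  exact le_bot_iff.mp ((Ideal.pow_le_pow_right Nat.lt_two_pow_self.le).trans (le_of_eq hn))

end Groth.Agent.Lib.MultAvg
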