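import Groth.Agent.Lib.MultAvg.Split
import Groth.Agent.H87.Charts
import Groth.Prelude.Def_TwC
import Mathlib.RingTheory.TensorProduct.IncludeLeftSubRight
import Mathlib.RingTheory.Flat.FaithfullyFlat.Algebra

/-!
# Groups of multiplicative type have invariant integrals
-/

set_option autoImplicit false
universe u

open CategoryTheory MonoidalCategory CartesianMonoidalCategory MonObj GrpObj AlgebraicGeometry
open CategoryTheory.Limits TensorProduct
open Groth.Agent.H87 Groth.Agent.Lib.Tori

namespace Groth.Agent.Lib.MultAvg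

set_option linter.style.haveILetI false

variable {S : Scheme.{u}} {H : Over S} [GrpObj H]

/-- `H` is fpqc-locally diagonalisable (types in `Type 0`, not assumed finitely generated). -/
def LocSplit (H : Over S) [GrpObj H] : Prop :=
  TwC.Locally S TwC.Topology.fpqc (fun S' f =>
    ∃ (M : Type) (_ : AddCommGroup M), Nonempty (Grp.mk (Red.bc f H) ≅ Grp.mk (Red.DS S' M)))

set_option backward.isDefEq.respectTransparency false in
theorem isAffineHom_of_locSplit (h : LocSplit H) : IsAffineHom H.hom := by
  obtain ⟨S', f, hf, -, hc, hloc⟩ := h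
  have := AffineDescent.descendsAlong_isAffineHom.{u}
  exact MT.prop_of_locally_DS @IsAffineHom H (fun _ _ => True) f hc
    (fun s' => by obtain ⟨U, hU, M, i, he⟩ := hloc s'; exact ⟨U, hU, M, i, trivial, he⟩)
    fun X M _ _ => DS.isAffineHom X M

/-- A finite family of split charts, jointly surjective and flat over an affine base. -/
theorem exists_split_cover (h : LocSplit H) {A : CommRingCat.{u}} (t : Spec A ⟶ S) :
    ∃ (κ : Type u) (_ : Fintype κ) (B : κ → CommRingCat.{u}) (φ : ∀ i, A ⟶ B i),
      (∀ i, (φ i).hom.Flat) ∧ (∀ x : Spec A, ∃ i y, (Spec.map (φ i)).base y = x) ∧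
      ∀ i, ∃ (M : Type) (_ : AddCommGroup M),
        Nonempty (Grp.mk (Red.bc (Spec.map (φ i) ≫ t) H) ≅ Grp.mk (Red.DS (Spec (B i)) M)) := by
  obtain ⟨S', f, hf, -, hc, hloc⟩ := h
  let π := pullback.fst t f
  obtain ⟨W, hW, hWe⟩ := Basic.isQCCover_pullback_snd hc t ⊤ (isAffineOpen_top _)
  choose U hU M iM e₀ using fun w : (pullback t f : Scheme.{u}) => hloc ((pullback.snd t f).base w)
  choose V hV hwV hVU using fun w : (pullback t f : Scheme.{u}) =>
    exists_isAffineOpen_mem_and_subset (X := pullback t f) (x := w) (U := pullback.snd t f ⁻¹ᵁ U w) (hU w)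
  obtain ⟨s, hs⟩ := hW.elim_finite_subcover (fun w => (V w : Set (pullback t f : Scheme.{u})))
    (fun w => (V w).2) (fun w _ => Set.mem_iUnion.mpr ⟨w, hwV w⟩)
  refine ⟨{w // w ∈ s}, inferInstance, fun i => Γ(pullback t f, V i.1),
    fun i => Spec.preimage ((hV i.1).fromSpec ≫ π), fun i => ?_, fun x => ?_, fun i => ?_⟩
  · rw [← HasRingHomProperty.Spec_iff (P := @Flat), Spec.map_preimage]
    infer_instance
  · obtain ⟨w, hw, rfl⟩ := (Set.ext_iff.mp hWe x).mpr trivial
    obtain ⟨w₀, hw₀, hwv⟩ := Set.mem_iUnion₂.mp (hs hw)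
    obtain ⟨y, hy⟩ := (hV w₀).range_fromSpec.symm ▸ hwv
    refine ⟨⟨w₀, hw₀⟩, y, ?_⟩
    rw [Spec.map_preimage, Scheme.Hom.comp_apply, hy]
  · refine ⟨M i.1, iM i.1, ?_⟩
    obtain ⟨e⟩ := e₀ i.1
    let k : Spec Γ(pullback t f, V i.1) ⟶ (U i.1 : Scheme.{u}) :=
      IsOpenImmersion.lift (U i.1).ι ((hV i.1).fromSpec ≫ pullback.snd t f) (by
        rintro _ ⟨y, rfl⟩
        rw [Scheme.Opens.range_ι]
        have h1 := Set.mem_range_self (f := (hV i.1).fromSpec.base) y
        rw [(hV i.1).range_fromSpec] at h1
        exact hVU i.1 h1)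
    refine ⟨BaseChange.bcCongr ?_ H ≪≫ Charts.resChart e k⟩
    rw [Spec.map_preimage, IsOpenImmersion.lift_fac_assoc, Category.assoc, Category.assoc,
      pullback.condition]

variable {A : CommRingCat.{u}} {t : Spec A ⟶ S}

theorem Coord.exists_isIntegral (d : Coord t H) (h : LocSplit H) :
    ∃ f : d.C →ₗ[A] A, d.IsIntegral f := by
  classical
  obtain ⟨κ, _, B, φ, hflat, hsurj, hsplit⟩ := exists_split_cover h t
  letI : ∀ i, Algebra A (B i) := fun i => (φ i).hom.toAlgebra
  haveI : ∀ i, Module.Flat A (B i) := fun i => hflat i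
  have hf : ∀ i, ∃ f : d.C →ₗ[A] B i, d.IsIntegral f := fun i => by
    obtain ⟨M, iM, ⟨e⟩⟩ := hsplit i
    exact d.exists_isIntegral_of_split (B i) (M := M) e
  choose f hf using hf
  let P : Type u := ∀ i, B i
  let F : d.C →ₗ[A] P := LinearMap.pi f
  have hP : Module.Flat A P :=
    Module.Flat.of_linearEquiv (DirectSum.linearEquivFunOnFintype A κ fun i => B i).symm
  haveI : Module.FaithfullyFlat A P := Module.FaithfullyFlat.of_comap_surjective fun x => by
    obtain ⟨i, y, hy⟩ := hsurj x
    exact ⟨PrimeSpectrum.comap (Pi.evalRingHom (fun i => B i) i) y, hy⟩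
  have hinj : ∀ z z' : P ⊗[A] d.C, (∀ i, (LinearMap.proj i).rTensor d.C z =
      (LinearMap.proj (R := A) (φ := fun i => B i) i).rTensor d.C z') → z = z' := fun z z' hz => by
    have e : ∀ w : P ⊗[A] d.C, ∀ i, TensorProduct.piLeft A d.C (fun i => B i) w i =
        (LinearMap.proj (R := A) (φ := fun i => B i) i).rTensor d.C w := fun w i => by
      induction w using TensorProduct.induction_on with
      | zero => simp
      | tmul x y => simp
      | add x y hx hy => simp only [map_add, Pi.add_apply, hx, hy]
    exact (TensorProduct.piLeft A d.C (fun i => B i)).injective (funext fun i => by rw [e, e, hz i])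
  have hF : d.IsIntegral F := by
    refine ⟨funext fun i => (hf i).one, fun c => hinj _ _ fun i => ?_, fun c => ?_⟩
    · rw [← LinearMap.rTensor_comp_apply, show LinearMap.proj i ∘ₗ F = f i from rfl, (hf i).left]
      rfl
    · apply (TensorProduct.comm A d.C P).injective
      refine hinj _ _ fun i => ?_
      have e : ∀ w : d.C ⊗[A] P, (LinearMap.proj (R := A) (φ := fun i => B i) i).rTensor d.C
          (TensorProduct.comm A d.C P w) =
          TensorProduct.comm A d.C (B i) ((LinearMap.proj (R := A) (φ := fun i => B i) i).lTensor d.C w) := fun w => by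
        induction w using TensorProduct.induction_on with
        | zero => simp
        | tmul x y => simp
        | add x y hx hy => simp only [map_add, hx, hy]
      rw [e, e, ← LinearMap.lTensor_comp_apply, show LinearMap.proj i ∘ₗ F = f i from rfl, (hf i).right]
      rfl
  -- descent of the values
  let l : P →ₐ[A] P ⊗[A] P := Algebra.TensorProduct.includeLeft
  let r : P →ₐ[A] P ⊗[A] P := Algebra.TensorProduct.includeRight
  have hmem : ∀ c, ∃ a : A, algebraMap A P a = F c := fun c => by
    have heq : l (F c) = r (F c) := LinearMap.congr_fun ((hF.comp l).unique (hF.comp r)) c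
    have hset := Algebra.IsEffective.eqLocus_includeLeft_includeRight
      (Algebra.IsEffective.of_faithfullyFlat A P)
    exact hset.subset heq
  choose g hg using hmem
  have hι : Function.Injective (algebraMap A P) := FaithfulSMul.algebraMap_injective A P
  let ε : d.C →ₗ[A] A :=
    { toFun := g
      map_add' := fun x y => hι (by rw [map_add, hg, hg, hg, map_add])
      map_smul' := fun a x => hι (by
        rw [RingHom.id_apply, smul_eq_mul, map_mul, hg, hg, map_smul, Algebra.smul_def]) }
  have hεF : Algebra.linearMap A P ∘ₗ ε = F := LinearMap.ext hg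
  refine ⟨ε, hι ((hg 1).trans (hF.one.trans (map_one _).symm)), fun c => ?_, fun c => ?_⟩
  · have hinj' : Function.Injective ((Algebra.linearMap A P).rTensor d.C) := by
      have h1 := Module.FaithfullyFlat.tensorProduct_mk_injective (A := A) (B := P) d.C
      have e : ∀ w, (Algebra.linearMap A P).rTensor d.C w =
          TensorProduct.mk A P d.C 1 (TensorProduct.lid A d.C w) := fun w => by
        induction w using TensorProduct.induction_on with
        | zero => simp
        | tmul x y => simp [← TensorProduct.smul_tmul, ← TensorProduct.tmul_smul, Algebra.algebraMap_eq_smul_one]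
        | add x y hx hy => simp only [map_add, hx, hy]
      intro x y hxy
      rw [e, e] at hxy
      exact (TensorProduct.lid A d.C).injective (h1 hxy)
    apply hinj'
    rw [← LinearMap.rTensor_comp_apply, hεF, hF.left, ← hg c]
    rfl
  · have hinj' : Function.Injective ((Algebra.linearMap A P).lTensor d.C) := by
      have h1 := Module.FaithfullyFlat.tensorProduct_mk_injective (A := A) (B := P) d.C
      have e : ∀ w, TensorProduct.comm A d.C P ((Algebra.linearMap A P).lTensor d.C w) =
          TensorProduct.mk A P d.C 1 (TensorProduct.rid A d.C w) := fun w => by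
        induction w using TensorProduct.induction_on with
        | zero => simp
        | tmul x y => simp [← TensorProduct.smul_tmul, ← TensorProduct.tmul_smul, Algebra.algebraMap_eq_smul_one]
        | add x y hx hy => simp only [map_add, hx, hy]
      intro x y hxy
      have h2 := congrArg (TensorProduct.comm A d.C P) hxy
      rw [e, e] at h2
      exact (TensorProduct.rid A d.C).injective (h1 h2)
    apply hinj'
    rw [← LinearMap.lTensor_comp_apply, hεF, hF.right, ← hg c]
    rfl

/-- **Invariant integrals exist.** -/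
theorem exists_intData (h : LocSplit H) (t : Spec A ⟶ S) : Nonempty (IntData t H) := by
  haveI := isAffineHom_of_locSplit h
  obtain ⟨d⟩ := exists_coord t H
  obtain ⟨ε, hε⟩ := d.exists_isIntegral h
  let E : d.C₂ →+ d.C := ((TensorProduct.rid A d.C).toLinearMap ∘ₗ ε.lTensor d.C).toAddMonoidHom
  have hE : ∀ x y, E (x ⊗ₜ[A] y) = x * algebraMap A d.C (ε y) := fun x y => by
    simp [E, Algebra.smul_def, _root_.mul_comm]
  refine ⟨{ C := d.C, inc := d.inc, univ := d.univ, fac := d.fac, C₂ := d.C₂, p₁ := d.p₁,
            p₂ := d.p₂, m := d.m, w₂ := d.w₂, wm := d.wm, mul := d.mul_eq,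
            ε := { toFun := ε.toAddMonoidHom, lin := fun a c => ?_, one := hε.one }
            E := { toFun := E, lin := fun a c => ?_, one := ?_ }
            E_m := fun c => ?_, E_p₂ := fun c => ?_ }⟩
  · show ε (algebraMap A d.C a * c) = a * ε c
    rw [← Algebra.smul_def, map_smul, smul_eq_mul]
  · induction c using TensorProduct.induction_on with
    | zero => simp
    | add x y hx hy => simp only [_root_.mul_add, map_add, hx, hy]
    | tmul x y =>
      show E ((a ⊗ₜ[A] (1 : d.C)) * (x ⊗ₜ[A] y)) = a * E (x ⊗ₜ[A] y)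
      rw [Algebra.TensorProduct.tmul_mul_tmul, _root_.one_mul, hE, hE, _root_.mul_assoc]
  · show E ((1 : d.C) ⊗ₜ[A] (1 : d.C)) = 1
    rw [hE, hε.one, map_one, _root_.one_mul]
  · show TensorProduct.rid A d.C (ε.lTensor d.C (d.m.hom c)) = algebraMap A d.C (ε c)
    rw [hε.right, TensorProduct.rid_tmul, Algebra.smul_def, _root_.mul_one]
  · show E ((1 : d.C) ⊗ₜ[A] c) = algebraMap A d.C (ε c)
    rw [hE, _root_.one_mul]

end Groth.Agent.Lib.MultAvg
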