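import Groth.Agent.Lib.MultAvg.Conj

/-!
# Global points over an affine base as test points
-/

set_option autoImplicit false
universe u

open CategoryTheory MonoidalCategory CartesianMonoidalCategory MonObj GrpObj AlgebraicGeometry
open Groth.Agent.H87.HomDS

namespace Groth.Agent.Lib.MultAvg

variable {A : CommRingCat.{u}}

/-- `Spec A` as the unit object. -/
noncomputable def toPt : 𝟙_ (Over (Spec A)) ⟶ test (𝟙 (Spec A)) (𝟙 A) :=
  Over.homMk (𝟙 (Spec A)) (by show 𝟙 _ ≫ Spec.map (𝟙 A) ≫ 𝟙 _ = 𝟙 _; simp)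

/-- The reduced base as a test object. -/
noncomputable def toMod (J : Ideal A) :
    (Over.mk (Spec.map (mkA J)) : Over (Spec A)) ⟶ test (𝟙 (Spec A)) (mkA J) :=
  Over.homMk (𝟙 (Spec (CommRingCat.of (A ⧸ J)))) (by show 𝟙 _ ≫ Spec.map (mkA J) ≫ 𝟙 _ = Spec.map (mkA J); simp)

/-- The test object as the reduced base. -/
noncomputable def ofMod (J : Ideal A) :
    test (𝟙 (Spec A)) (mkA J) ⟶ (Over.mk (Spec.map (mkA J)) : Over (Spec A)) :=
  Over.homMk (𝟙 (Spec (CommRingCat.of (A ⧸ J)))) (by show 𝟙 _ ≫ Spec.map (mkA J) = Spec.map (mkA J) ≫ 𝟙 _; simp)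

theorem toMod_ofMod (J : Ideal A) : toMod J ≫ ofMod J = 𝟙 _ :=
  Over.OverMorphism.ext (Category.id_comp _)

theorem toUnit_toPt (J : Ideal A) :
    toUnit (Over.mk (Spec.map (mkA J)) : Over (Spec A)) ≫ toPt =
      toMod J ≫ tmap (𝟙 (Spec A)) (φ := 𝟙 A) (mkA J) (Category.id_comp _) := by
  apply Over.OverMorphism.ext
  have h : (toUnit (Over.mk (Spec.map (mkA J)) : Over (Spec A))).left ≫
      (𝟙_ (Over (Spec A))).hom = Spec.map (mkA J) := Over.w _
  show (toUnit (Over.mk (Spec.map (mkA J)) : Over (Spec A))).left ≫ 𝟙 _ = 𝟙 _ ≫ Spec.map (mkA J)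
  exact h.trans (Category.id_comp _).symm

theorem Rel.global {H G : Over (Spec A)} [GrpObj H] [GrpObj G] {a b : H ⟶ G}
    {g : test (𝟙 (Spec A)) (𝟙 A) ⟶ G} (h : Rel a b g) (X : Over (Spec A)) (x : X ⟶ H) :
    x ≫ b = (toUnit X ≫ toPt ≫ g) * (x ≫ a) * (toUnit X ≫ toPt ≫ g)⁻¹ := by
  rw [← Category.assoc]
  exact (h X (toUnit X ≫ toPt) x).symm

end Groth.Agent.Lib.MultAvg
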