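import Groth.Agent.Lib.MultAvg.HomSplit
import Groth.Agent.Lib.MultAvg.Exists
import Groth.Agent.H87.HomFam
import Groth.Agent.H87.Charts
import Groth.Agent.Lib.MultAvg.Points

/-!
# Homomorphisms of groups of multiplicative type lift along nilpotent ideals
-/

set_option autoImplicit false
universe u

open CategoryTheory MonoidalCategory CartesianMonoidalCategory MonObj GrpObj AlgebraicGeometry
open CategoryTheory.Limits
open Groth.Agent.H87 Groth.Agent.H87.HomDS Groth.Agent.H87.HomFam Groth.Agent.Lib.Tori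

namespace Groth.Agent.Lib.MultAvg

set_option linter.style.haveILetI false

variable {A : CommRingCat.{u}} {H H' : Over (Spec A)} [GrpObj H] [GrpObj H']

/-- Common split charts: a finite fpqc family over an affine base. -/
theorem exists_common_cover (hH : LocSplit H) (hH' : LocSplit H') :
    ∃ (κ : Type u) (B : κ → CommRingCat.{u}) (φ : ∀ i, A ⟶ B i),
      Presieve.ofArrows (fun i => Spec (B i)) (fun i => Spec.map (φ i)) ∈
        Scheme.fpqcPrecoverage (Spec A) ∧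
      ∀ i, ∃ (M : Type) (_ : AddCommGroup M) (M' : Type) (_ : AddCommGroup M'),
        Nonempty (Grp.mk (Red.bc (Spec.map (φ i) ≫ 𝟙 (Spec A)) H) ≅ Grp.mk (Red.DS (Spec (B i)) M)) ∧
        Nonempty (Grp.mk (Red.bc (Spec.map (φ i) ≫ 𝟙 (Spec A)) H') ≅ Grp.mk (Red.DS (Spec (B i)) M')) := by
  obtain ⟨κ, _, B, φ, hflat, hsurj, hsplit⟩ := exists_split_cover hH (𝟙 (Spec A))
  choose κ' hfin B' ψ hflat' hsurj' hsplit' using fun i : κ =>
    exists_split_cover hH' (Spec.map (φ i) ≫ 𝟙 (Spec A))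
  refine ⟨Σ i, κ' i, fun p => B' p.1 p.2, fun p => φ p.1 ≫ ψ p.1 p.2, ?_, fun p => ?_⟩
  · haveI : ∀ i, Fintype (κ' i) := hfin
    have hfl : ∀ p : Σ i, κ' i, Flat (Spec.map (φ p.1 ≫ ψ p.1 p.2)) := fun p => by
      rw [HasRingHomProperty.Spec_iff (P := @Flat)]
      exact RingHom.Flat.comp (hflat p.1) (hflat' p.1 p.2)
    have hcov : ∀ x : Spec A, ∃ p : Σ i, κ' i, ∃ y, (Spec.map (φ p.1 ≫ ψ p.1 p.2)).base y = x :=
      fun x => by
        obtain ⟨i, y, rfl⟩ := hsurj x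
        obtain ⟨j, z, rfl⟩ := hsurj' i y
        exact ⟨⟨i, j⟩, z, by rw [Spec.map_comp, Scheme.Hom.comp_apply]⟩
    refine ⟨?_, (Scheme.ofArrows_mem_precoverage_iff (P := @Flat)).2 ⟨hcov, hfl⟩⟩
    show (PreZeroHypercover.mk (Σ i, κ' i) (fun p => Spec (B' p.1 p.2))
      fun p => Spec.map (φ p.1 ≫ ψ p.1 p.2)).presieve₀ ∈ _
    rw [Scheme.presieve₀_mem_qcPrecoverage_iff]
    refine ⟨fun {W} hW => IsCompactOpenCovered.of_finite (κ := Σ i, κ' i) id
      (fun p => Spec.map (φ p.1 ≫ ψ p.1 p.2) ⁻¹ᵁ W)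
      (fun p => QuasiCompact.isCompact_preimage _ W.2 hW.isCompact) ?_⟩
    refine Set.Subset.antisymm ?_ ?_
    · intro s hs
      obtain ⟨p, y, hy, rfl⟩ := Set.mem_iUnion.1 hs
      exact hy
    · intro x hx
      obtain ⟨p, y, rfl⟩ := hcov x
      exact Set.mem_iUnion.2 ⟨p, y, hx, rfl⟩
  · obtain ⟨M, iM, ⟨e⟩⟩ := hsplit p.1
    obtain ⟨M', iM', ⟨e'⟩⟩ := hsplit' p.1 p.2
    refine ⟨M, iM, M', iM', ⟨BaseChange.bcCongr ?_ H ≪≫ Charts.resChart e (Spec.map (ψ p.1 p.2))⟩,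
      ⟨BaseChange.bcCongr ?_ H' ≪≫ e'⟩⟩ <;> rw [Spec.map_comp, Category.assoc]

/-- The family of a morphism. -/
noncomputable def HFam.ofHom (a : H ⟶ H') [IsMonHom a] {D : CommRingCat.{u}} (φ : A ⟶ D) :
    HFam H H' φ where
  app _ _ h := h ≫ a
  nat r _ h := Category.assoc r h a
  mul _ h h' := MonObj.mul_comp h h' a

/-- A family as a `Fam`. -/
noncomputable def HFam.toFam {D : CommRingCat.{u}} {φ : A ⟶ D} (Ψ : HFam H H' φ) :
    Fam H H' (Spec.map φ ≫ 𝟙 (Spec A)) where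
  app Y y hy g := Ψ.app Y (Over.homMk y hy) g
  natural {Y Y'} r y hy y' hy' g e := by
    rw [← Ψ.nat r]
    congr 1
    exact Over.OverMorphism.ext e.symm
  mul Y y hy g g' := Ψ.mul _ g g'

variable {κ : Type u} {B : κ → CommRingCat.{u}} {φ : ∀ i, A ⟶ B i}

/-- Morphisms into `H'` are determined on the pieces of a cover. -/
theorem hom_ext_of_cover
    (hcov : Presieve.ofArrows (fun i => Spec (B i)) (fun i => Spec.map (φ i)) ∈
      Scheme.fpqcPrecoverage (Spec A)) {T : Over (Spec A)} (a b : T ⟶ H')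
    (h : ∀ i (Z : Over (Spec A)) (r : Z ⟶ T) (_ : Z ⟶ test (𝟙 (Spec A)) (φ i)), r ≫ a = r ≫ b) :
    a = b := by
  have hpb : Presieve.ofArrows (fun i => pullback T.hom (Spec.map (φ i)))
      (fun i => pullback.fst T.hom (Spec.map (φ i))) ∈ Scheme.fpqcPrecoverage T.left :=
    Precoverage.mem_coverings_of_isPullback _ hcov T.hom _ (fun _ ↦ pullback.snd _ _)
      fun _ ↦ IsPullback.of_hasPullback _ _
  apply Over.OverMorphism.ext
  refine (Groth.Agent.Lib.DescAlg.DDFam.Cover.isSheafFor_yoneda hpb H'.left).isSeparatedFor.ext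
    fun Z g hg => ?_
  obtain ⟨i⟩ := hg
  let P : Over (Spec A) := Over.mk (pullback.fst T.hom (Spec.map (φ i)) ≫ T.hom)
  let r : P ⟶ T := Over.homMk (pullback.fst T.hom (Spec.map (φ i))) rfl
  let p : P ⟶ test (𝟙 (Spec A)) (φ i) := Over.homMk (pullback.snd T.hom (Spec.map (φ i))) (by
    show pullback.snd T.hom (Spec.map (φ i)) ≫ Spec.map (φ i) ≫ 𝟙 _ =
      pullback.fst T.hom (Spec.map (φ i)) ≫ T.hom
    rw [Category.comp_id, pullback.condition])
  exact congrArg CommaMorphism.left (h i P r p)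

variable {J : Ideal A} (hJ : IsNilpotent J)

include hJ in
/-- Lifts over charts agree where two charts meet. -/
theorem lifts_agree (Φ : HFam H H' (mkA J))
    (hsplit : ∀ i, ∃ (M : Type) (_ : AddCommGroup M) (M' : Type) (_ : AddCommGroup M'),
        Nonempty (Grp.mk (Red.bc (Spec.map (φ i) ≫ 𝟙 (Spec A)) H) ≅ Grp.mk (Red.DS (Spec (B i)) M)) ∧
        Nonempty (Grp.mk (Red.bc (Spec.map (φ i) ≫ 𝟙 (Spec A)) H') ≅ Grp.mk (Red.DS (Spec (B i)) M')))
    {i j : κ} {Ψ : HFam H H' (φ i)} {Ψ' : HFam H H' (φ j)} (hΨ : HFam.IsLift Φ Ψ)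
    (hΨ' : HFam.IsLift Φ Ψ') {Y : Over (Spec A)} (p : Y ⟶ test (𝟙 (Spec A)) (φ i))
    (q : Y ⟶ test (𝟙 (Spec A)) (φ j)) (h : Y ⟶ H) : Ψ.app Y p h = Ψ'.app Y q h := by
  apply Over.OverMorphism.ext
  refine Scheme.Cover.hom_ext Y.left.affineCover _ _ fun k => ?_
  haveI : IsAffine (Y.left.affineCover.X k) := inferInstanceAs (IsAffine (Spec _))
  rw [← cancel_epi (Y.left.affineCover.X k).isoSpec.inv, ← Category.assoc, ← Category.assoc]
  obtain ⟨E, f, hf⟩ : ∃ (E : CommRingCat.{u}) (f : Spec E ⟶ Y.left),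
      ∀ a b : Y.left ⟶ H'.left, f ≫ a = f ≫ b →
        ((Y.left.affineCover.X k).isoSpec.inv ≫ Y.left.affineCover.f k) ≫ a =
          ((Y.left.affineCover.X k).isoSpec.inv ≫ Y.left.affineCover.f k) ≫ b :=
    ⟨Γ(Y.left.affineCover.X k, ⊤), (Y.left.affineCover.X k).isoSpec.inv ≫ Y.left.affineCover.f k, fun _ _ h => h⟩
  refine hf _ _ ?_
  obtain ⟨g, hg⟩ : ∃ g : B i ⟶ E, Spec.map g = f ≫ p.left := ⟨_, Spec.map_preimage _⟩
  obtain ⟨g', hg'⟩ : ∃ g' : B j ⟶ E, Spec.map g' = f ≫ q.left := ⟨_, Spec.map_preimage _⟩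
  have wp : p.left ≫ Spec.map (φ i) ≫ 𝟙 _ = Y.hom := Over.w p
  have wq : q.left ≫ Spec.map (φ j) ≫ 𝟙 _ = Y.hom := Over.w q
  rw [Category.comp_id] at wp wq
  have hw : φ i ≫ g = φ j ≫ g' := Spec.map_injective (by
    rw [Spec.map_comp, Spec.map_comp, hg, hg', Category.assoc, Category.assoc, wp, wq])
  let r : test (𝟙 (Spec A)) (φ i ≫ g) ⟶ Y := Over.homMk f (by
    show f ≫ Y.hom = Spec.map (φ i ≫ g) ≫ 𝟙 _
    rw [Category.comp_id, Spec.map_comp, hg, Category.assoc, wp])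
  let u₁ : test (𝟙 (Spec A)) (φ i ≫ g) ⟶ test (𝟙 (Spec A)) (φ i ≫ g) := 𝟙 _
  have hp : r ≫ p = tmap (𝟙 (Spec A)) g rfl := Over.OverMorphism.ext hg.symm
  have hq : r ≫ q = tmap (𝟙 (Spec A)) g' hw.symm := Over.OverMorphism.ext hg'.symm
  obtain ⟨M, iM, M', iM', ⟨e⟩, ⟨e'⟩⟩ := hsplit i
  have h1 : Spec.map (φ i ≫ g) ≫ 𝟙 (Spec A) = Spec.map g ≫ Spec.map (φ i) ≫ 𝟙 (Spec A) := by
    rw [Spec.map_comp, Category.assoc]
  have key := HFam.IsLift.eq_of_split Φ (φ i ≫ g) hJ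
    (BaseChange.bcCongr h1 H ≪≫ Charts.resChart e (Spec.map g))
    (BaseChange.bcCongr h1 H' ≪≫ Charts.resChart e' (Spec.map g))
    (hΨ.res Φ g rfl) (hΨ'.res Φ g' hw.symm) _ u₁ (r ≫ h)
  have key' : Ψ.app _ (r ≫ p) (r ≫ h) = Ψ'.app _ (r ≫ q) (r ≫ h) := by
    rw [hp, hq]
    simpa [HFam.res, u₁] using key
  rw [Ψ.nat, Ψ'.nat] at key'
  exact congrArg CommaMorphism.left key'

include hJ in
/-- **Homomorphisms between groups of multiplicative type are rigid along nilpotent ideals.** -/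
theorem hom_ext_mod_nilpotent (hH : LocSplit H) (hH' : LocSplit H') (a b : H ⟶ H') [IsMonHom a]
    [IsMonHom b]
    (h : ∀ (Y : Over (Spec A)) (_ : Y ⟶ test (𝟙 (Spec A)) (mkA J)) (x : Y ⟶ H), x ≫ a = x ≫ b) :
    a = b := by
  obtain ⟨κ, B, φ, hcov, hsplit⟩ := exists_common_cover hH hH'
  refine hom_ext_of_cover hcov a b fun i Z r p => ?_
  exact lifts_agree hJ (HFam.ofHom b (mkA J)) hsplit (Ψ := HFam.ofHom a (φ i)) (Ψ' := HFam.ofHom b (φ i))
    (fun Y _ q x => h Y q x) (fun Y _ _ x => rfl) p p r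

include hJ in
/-- **Homomorphisms between groups of multiplicative type lift along nilpotent ideals.** -/
theorem exists_hom_lift (hH : LocSplit H) (hH' : LocSplit H') (Φ : HFam H H' (mkA J)) :
    ∃ a : H ⟶ H', IsMonHom a ∧
      ∀ (Y : Over (Spec A)) (q : Y ⟶ test (𝟙 (Spec A)) (mkA J)) (x : Y ⟶ H), x ≫ a = Φ.app Y q x := by
  obtain ⟨κ, B, φ, hcov, hsplit⟩ := exists_common_cover hH hH'
  have hex : ∀ i, ∃ Ψ : HFam H H' (φ i), HFam.IsLift Φ Ψ := fun i => by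
    obtain ⟨M, iM, M', iM', ⟨e⟩, ⟨e'⟩⟩ := hsplit i
    exact exists_lift_of_split Φ (φ i) hJ e e'
  choose Ψ hΨ using hex
  obtain ⟨F, hF, -⟩ := exists_glue (G := H) (H := H') (t := 𝟙 (Spec A)) hcov (fun i => (Ψ i).toFam)
    (fun W i j w v e => by
      refine Fam.ext (funext fun Y => funext fun y => funext fun hy => funext fun x => ?_)
      exact lifts_agree hJ Φ hsplit (hΨ i) (hΨ j) _ _ x)
  let a : H ⟶ H' := F.app H H.hom (Category.comp_id _) (𝟙 H)
  have ha : ∀ (Y : Over (Spec A)) (x : Y ⟶ H), x ≫ a = F.app Y Y.hom (Category.comp_id _) x :=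
    fun Y x => by
      refine (F.natural x H.hom (Category.comp_id _) Y.hom (Category.comp_id _) (𝟙 H) (Over.w x)).symm.trans ?_
      rw [Category.comp_id]
  refine ⟨a, HomDS.isMonHom_of_points a fun X x x' => by rw [ha, ha, ha, F.mul], fun Y q x => ?_⟩
  refine hom_ext_of_cover hcov _ _ fun i Z r p => ?_
  rw [← Φ.nat r, ← Category.assoc, ha]
  have hpw : p.left ≫ Spec.map (φ i) ≫ 𝟙 _ = Z.hom := Over.w p
  refine Eq.trans ?_ (hΨ i Z p (r ≫ q) (r ≫ x))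
  refine Eq.trans ?_ (congr(($(hF i)).app Z p.left hpw (r ≫ x)))
  refine F.app_congr ?_ _ _ _
  exact hpw.symm.trans (congrArg (p.left ≫ ·) (Category.comp_id _))

include hJ in
/-- Homomorphisms inverse to each other modulo a nilpotent ideal are inverse to each other. -/
theorem exists_iso_lift (hH : LocSplit H) (hH' : LocSplit H') (Φ : HFam H H' (mkA J))
    (Φ' : HFam H' H (mkA J))
    (h₁ : ∀ (Y : Over (Spec A)) (q : Y ⟶ test (𝟙 (Spec A)) (mkA J)) (x : Y ⟶ H),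
      Φ'.app Y q (Φ.app Y q x) = x)
    (h₂ : ∀ (Y : Over (Spec A)) (q : Y ⟶ test (𝟙 (Spec A)) (mkA J)) (x : Y ⟶ H'),
      Φ.app Y q (Φ'.app Y q x) = x) :
    ∃ a : H ≅ H', IsMonHom a.hom ∧
      ∀ (Y : Over (Spec A)) (q : Y ⟶ test (𝟙 (Spec A)) (mkA J)) (x : Y ⟶ H),
        x ≫ a.hom = Φ.app Y q x := by
  obtain ⟨a, hma, ha⟩ := exists_hom_lift hJ hH hH' Φ
  obtain ⟨b, hmb, hb⟩ := exists_hom_lift hJ hH' hH Φ'
  refine ⟨⟨a, b, hom_ext_mod_nilpotent hJ hH hH _ _ fun Y q x => ?_,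
    hom_ext_mod_nilpotent hJ hH' hH' _ _ fun Y q x => ?_⟩, hma, ha⟩
  · rw [← Category.assoc, ha Y q, hb Y q, h₁, Category.comp_id]
  · rw [← Category.assoc, hb Y q, ha Y q, h₂, Category.comp_id]

include hJ in
/-- Subgroups of multiplicative type conjugate modulo a nilpotent ideal are isomorphic compatibly
with the conjugation. -/
theorem exists_conj_iso (hH : LocSplit H) (hH' : LocSplit H') {G : Over (Spec A)} [GrpObj G]
    (i : H ⟶ G) (i' : H' ⟶ G) [IsMonHom i] [IsMonHom i'] [Mono i] [Mono i']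
    (c : test (𝟙 (Spec A)) (mkA J) ⟶ G)
    (h₁ : ∀ (Y : Over (Spec A)) (q : Y ⟶ test (𝟙 (Spec A)) (mkA J)) (x : Y ⟶ H),
      ∃ x' : Y ⟶ H', (q ≫ c) * (x ≫ i) * (q ≫ c)⁻¹ = x' ≫ i')
    (h₂ : ∀ (Y : Over (Spec A)) (q : Y ⟶ test (𝟙 (Spec A)) (mkA J)) (x : Y ⟶ H'),
      ∃ x' : Y ⟶ H, (q ≫ c)⁻¹ * (x ≫ i') * (q ≫ c) = x' ≫ i) :
    ∃ a : H ≅ H', IsMonHom a.hom ∧ Rel i (a.hom ≫ i') c := by
  choose f hf using h₁
  choose f' hf' using h₂
  let Φ : HFam H H' (mkA J) :=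
    { app := f
      nat := fun r p h => by
        rw [← cancel_mono i', ← hf, Category.assoc r (f _ p h), ← hf, Category.assoc, Category.assoc,
          MonObj.comp_mul, MonObj.comp_mul, GrpObj.comp_inv]
      mul := fun p h h' => by
        rw [← cancel_mono i', ← hf, MonObj.mul_comp _ _ i', ← hf, ← hf, MonObj.mul_comp _ _ i]
        group }
  let Φ' : HFam H' H (mkA J) :=
    { app := f'
      nat := fun r p h => by
        rw [← cancel_mono i, ← hf', Category.assoc r (f' _ p h), ← hf', Category.assoc, Category.assoc,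
          MonObj.comp_mul, MonObj.comp_mul, GrpObj.comp_inv]
      mul := fun p h h' => by
        rw [← cancel_mono i, ← hf', MonObj.mul_comp _ _ i, ← hf', ← hf', MonObj.mul_comp _ _ i']
        group }
  obtain ⟨a, hma, ha⟩ := exists_iso_lift hJ hH hH' Φ Φ'
    (fun Y q x => by
      show f' Y q (f Y q x) = x
      rw [← cancel_mono i, ← hf', ← hf]
      group)
    (fun Y q x => by
      show f Y q (f' Y q x) = x
      rw [← cancel_mono i', ← hf, ← hf']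
      group)
  refine ⟨a, hma, fun Y p x => ?_⟩
  rw [← Category.assoc, ha Y p x, hf]

end Groth.Agent.Lib.MultAvg
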