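import Groth.Agent.Lib.Ferrand.Spec
import Groth.Agent.Lib.Ferrand.Affine
import Mathlib.RingTheory.Ideal.Quotient.Operations
import Mathlib.Algebra.Ring.Subring.Basic

/-!
# Averages of points congruent modulo a square-zero ideal

Let `C` be an `A`-algebra with an `A`-linear functional `ε` with `ε 1 = 1` and `J ⊆ A` an ideal of
square zero. A morphism `y : Spec C ⟶ X` which is constant modulo `J` (it restricts to a morphism
`x₀ : Spec (A/J) ⟶ X`) factors through the pushout `Spec (C ×_{C/JC} A/J)`, and `ε` induces a ring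
homomorphism from this fibre product to `A`: the composite is the average of `y`. It is unique and
functorial, so no hypothesis on `X` is needed.
-/

set_option autoImplicit false
universe u

open CategoryTheory CategoryTheory.Limits AlgebraicGeometry

namespace Groth.Agent.Lib.MultAvg

variable {A C : CommRingCat.{u}} {X : Scheme.{u}}

/-- A functional on an algebra, linear and normalised. -/
structure Fnl (inc : A ⟶ C) where
  /-- the functional -/
  toFun : C →+ A
  lin : ∀ (a : A) (c : C), toFun (inc.hom a * c) = a * toFun c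
  one : toFun 1 = 1

namespace Fnl

variable {inc : A ⟶ C} (ε : Fnl inc)

theorem apply_inc (a : A) : ε.toFun (inc.hom a) = a := by
  simpa [ε.one] using ε.lin a 1

theorem apply_mem {J : Ideal A} {c : C} (hc : c ∈ J.map inc.hom) : ε.toFun c ∈ J := by
  suffices h : ∀ d, ε.toFun (c * d) ∈ J by simpa using h 1
  induction hc using Submodule.span_induction with
  | mem x hx =>
    obtain ⟨a, ha, rfl⟩ := hx
    intro d
    rw [ε.lin]
    exact J.mul_mem_right _ ha
  | zero => intro d; simp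
  | add x y _ _ hx hy => intro d; rw [add_mul, map_add]; exact J.add_mem (hx d) (hy d)
  | smul r x _ hx =>
    intro d
    rw [smul_eq_mul, mul_comm r, mul_assoc]
    exact hx _

end Fnl

section Thick

variable (inc : A ⟶ C) (J : Ideal A)

/-- Reduction of the base. -/
abbrev mkA : A ⟶ CommRingCat.of (A ⧸ J) := CommRingCat.ofHom (Ideal.Quotient.mk J)

/-- Reduction of the algebra. -/
abbrev mkC : C ⟶ CommRingCat.of (C ⧸ J.map inc.hom) :=
  CommRingCat.ofHom (Ideal.Quotient.mk (J.map inc.hom))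

/-- The reduced structure map. -/
def inc₀ : CommRingCat.of (A ⧸ J) ⟶ CommRingCat.of (C ⧸ J.map inc.hom) :=
  CommRingCat.ofHom (Ideal.quotientMap (J.map inc.hom) inc.hom Ideal.le_comap_map)

@[reassoc]
theorem mkA_inc₀ : mkA J ≫ inc₀ inc J = inc ≫ mkC inc J := rfl

/-- The thickening `C ×_{C/JC} A/J`. -/
def thk : Subring (C × (A ⧸ J)) :=
  RingHom.eqLocus ((mkC inc J).hom.comp (RingHom.fst C (A ⧸ J)))
    ((inc₀ inc J).hom.comp (RingHom.snd C (A ⧸ J)))

/-- The thickening as an object. -/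
abbrev Thk : CommRingCat.{u} := CommRingCat.of (thk inc J)

/-- Projection to the algebra. -/
def thkFst : Thk inc J ⟶ C := CommRingCat.ofHom ((RingHom.fst C (A ⧸ J)).comp (thk inc J).subtype)

/-- Projection to the reduced base. -/
def thkSnd : Thk inc J ⟶ CommRingCat.of (A ⧸ J) :=
  CommRingCat.ofHom ((RingHom.snd C (A ⧸ J)).comp (thk inc J).subtype)

theorem thk_comm : thkSnd inc J ≫ inc₀ inc J = thkFst inc J ≫ mkC inc J :=
  CommRingCat.hom_ext (RingHom.ext fun z => z.2.symm)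

theorem affSq : Ferrand.AffSq (Spec.map (mkC inc J)) (Spec.map (inc₀ inc J))
    (Spec.map (thkFst inc J)) (Spec.map (thkSnd inc J)) :=
  Ferrand.affSq_Spec (thk_comm inc J)
    { comm := fun z => z.2.symm
      surj := Ideal.Quotient.mk_surjective
      ext := fun x y h₁ h₂ => Subtype.ext (Prod.ext h₂ h₁)
      lift := fun b a h => ⟨⟨(a, b), h.symm⟩, rfl, rfl⟩ }

theorem isPushout : IsPushout (Spec.map (mkC inc J)) (Spec.map (inc₀ inc J))
    (Spec.map (thkFst inc J)) (Spec.map (thkSnd inc J)) :=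
  (affSq inc J).isLocPushout.isPushout

/-- Embedding of the base in the thickening. -/
def thkInc : A ⟶ Thk inc J :=
  CommRingCat.ofHom ((inc.hom.prod (Ideal.Quotient.mk J)).codRestrict (thk inc J) fun _ => rfl)

variable {inc J}

theorem exists_split (z : thk inc J) : ∃ a : A, Ideal.Quotient.mk J a = z.1.2 ∧
    z.1.1 - inc.hom a ∈ J.map inc.hom := by
  obtain ⟨a, ha⟩ := Ideal.Quotient.mk_surjective z.1.2
  refine ⟨a, ha, ?_⟩
  rw [← Ideal.Quotient.eq]
  refine z.2.trans ?_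
  show (inc₀ inc J).hom z.1.2 = _
  rw [← ha]
  rfl

variable (ε : Fnl inc) (hJ : J ^ 2 = ⊥)

/-- The functional is multiplicative on the thickening. -/
def sigma : Thk inc J ⟶ A :=
  CommRingCat.ofHom
    { toFun := fun z : thk inc J => ε.toFun z.1.1
      map_one' := ε.one
      map_zero' := map_zero _
      map_add' := fun _ _ => map_add _ _ _
      map_mul' := fun z w => by
        obtain ⟨a, -, hz⟩ := exists_split z
        obtain ⟨b, -, hw⟩ := exists_split w
        have hjk : (z.1.1 - inc.hom a) * (w.1.1 - inc.hom b) = 0 := by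
          have h := Ideal.mul_mem_mul hz hw
          rwa [← Ideal.map_mul, ← pow_two, hJ, Ideal.map_bot, Ideal.mem_bot] at h
        have hez : ε.toFun (z.1.1 - inc.hom a) * ε.toFun (w.1.1 - inc.hom b) = 0 := by
          have h := Ideal.mul_mem_mul (ε.apply_mem hz) (ε.apply_mem hw)
          rwa [← pow_two, hJ, Ideal.mem_bot] at h
        have e : z.1.1 * w.1.1 = inc.hom a * w.1.1 + inc.hom b * z.1.1 - inc.hom (a * b) := by
          rw [map_mul]
          linear_combination hjk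
        show ε.toFun (z.1.1 * w.1.1) = ε.toFun z.1.1 * ε.toFun w.1.1
        rw [e, map_sub, map_add, ε.lin, ε.lin, ε.apply_inc]
        rw [map_sub, map_sub, ε.apply_inc, ε.apply_inc] at hez
        linear_combination -hez }

theorem sigma_mkA : sigma ε hJ ≫ mkA J = thkSnd inc J := by
  refine CommRingCat.hom_ext (RingHom.ext fun z => ?_)
  obtain ⟨a, ha, hz⟩ := exists_split z
  show Ideal.Quotient.mk J (ε.toFun z.1.1) = z.1.2
  rw [← ha, Ideal.Quotient.eq]
  have h := ε.apply_mem hz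
  rwa [map_sub, ε.apply_inc] at h

theorem thkInc_sigma : thkInc inc J ≫ sigma ε hJ = 𝟙 A :=
  CommRingCat.hom_ext (RingHom.ext ε.apply_inc)

end Thick

section Avg

variable {inc : A ⟶ C} (ε : Fnl inc) {J : Ideal A} (hJ : J ^ 2 = ⊥)

/-- `xb` is the average of `y`, which is `x₀` modulo `J`. -/
def IsAvg (y : Spec C ⟶ X) (x₀ : Spec (CommRingCat.of (A ⧸ J)) ⟶ X) (xb : Spec A ⟶ X) : Prop :=
  ∃ z : Spec (Thk inc J) ⟶ X, Spec.map (thkFst inc J) ≫ z = y ∧ Spec.map (thkSnd inc J) ≫ z = x₀ ∧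
    Spec.map (sigma ε hJ) ≫ z = xb

theorem exists_isAvg (y : Spec C ⟶ X) (x₀ : Spec (CommRingCat.of (A ⧸ J)) ⟶ X)
    (h : Spec.map (mkC inc J) ≫ y = Spec.map (inc₀ inc J) ≫ x₀) :
    ∃ xb, IsAvg ε hJ y x₀ xb :=
  ⟨_, (isPushout inc J).desc y x₀ h, (isPushout inc J).inl_desc _ _ _,
    (isPushout inc J).inr_desc _ _ _, rfl⟩

variable {ε hJ} {y : Spec C ⟶ X} {x₀ : Spec (CommRingCat.of (A ⧸ J)) ⟶ X} {xb xb' : Spec A ⟶ X}

theorem IsAvg.unique (h : IsAvg ε hJ y x₀ xb) (h' : IsAvg ε hJ y x₀ xb') : xb = xb' := by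
  obtain ⟨z, h₁, h₂, rfl⟩ := h
  obtain ⟨z', h₁', h₂', rfl⟩ := h'
  rw [(isPushout inc J).hom_ext (h₁.trans h₁'.symm) (h₂.trans h₂'.symm)]

theorem IsAvg.mod (h : IsAvg ε hJ y x₀ xb) : Spec.map (mkA J) ≫ xb = x₀ := by
  obtain ⟨z, -, h₂, rfl⟩ := h
  rw [← Spec.map_comp_assoc, sigma_mkA, h₂]

theorem IsAvg.comp {X' : Scheme.{u}} (h : IsAvg ε hJ y x₀ xb) (F : X ⟶ X') :
    IsAvg ε hJ (y ≫ F) (x₀ ≫ F) (xb ≫ F) := by
  obtain ⟨z, h₁, h₂, rfl⟩ := h
  exact ⟨z ≫ F, by rw [reassoc_of% h₁], by rw [reassoc_of% h₂], by rw [Category.assoc]⟩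

variable (ε hJ) in
/-- A constant is its own average. -/
theorem isAvg_const (g : Spec A ⟶ X) :
    IsAvg ε hJ (Spec.map inc ≫ g) (Spec.map (mkA J) ≫ g) g :=
  ⟨Spec.map (thkInc inc J) ≫ g, by rw [← Spec.map_comp_assoc]; rfl,
    by rw [← Spec.map_comp_assoc]; rfl,
    by rw [← Spec.map_comp_assoc, thkInc_sigma, Spec.map_id, Category.id_comp]⟩

variable {A' C' : CommRingCat.{u}} {inc' : A' ⟶ C'} {J' : Ideal A'}

/-- Averages are functorial in the algebra with its functional. -/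
theorem IsAvg.map (h : IsAvg ε hJ y x₀ xb) (ε' : Fnl inc') (hJ' : J' ^ 2 = ⊥) (φ : A ⟶ A')
    (ψ : C ⟶ C') (hφψ : inc ≫ ψ = φ ≫ inc') (hJJ : J ≤ J'.comap φ.hom)
    (hε : ∀ c, ε'.toFun (ψ.hom c) = φ.hom (ε.toFun c)) :
    IsAvg ε' hJ' (Spec.map ψ ≫ y)
      (Spec.map (CommRingCat.ofHom (Ideal.quotientMap J' φ.hom hJJ)) ≫ x₀) (Spec.map φ ≫ xb) := by
  obtain ⟨z, h₁, h₂, rfl⟩ := h
  let φ₀ : CommRingCat.of (A ⧸ J) ⟶ CommRingCat.of (A' ⧸ J') :=
    CommRingCat.ofHom (Ideal.quotientMap J' φ.hom hJJ)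
  let Φ : Thk inc J ⟶ Thk inc' J' := CommRingCat.ofHom
    (((ψ.hom.comp (thkFst inc J).hom).prod (φ₀.hom.comp (thkSnd inc J).hom)).codRestrict
      (thk inc' J') fun w => by
        obtain ⟨a, ha, hw⟩ := exists_split w
        show Ideal.Quotient.mk _ (ψ.hom w.1.1) = (inc₀ inc' J').hom (φ₀.hom w.1.2)
        rw [← ha]
        show _ = Ideal.Quotient.mk _ (inc'.hom (φ.hom a))
        rw [Ideal.Quotient.eq, show inc'.hom (φ.hom a) = ψ.hom (inc.hom a) from
          congr((CommRingCat.Hom.hom $hφψ) a).symm, ← map_sub]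
        have h2 := Ideal.mem_map_of_mem ψ.hom hw
        rw [Ideal.map_map] at h2
        have hle : J.map (ψ.hom.comp inc.hom) ≤ J'.map inc'.hom := by
          rw [show ψ.hom.comp inc.hom = inc'.hom.comp φ.hom from congrArg CommRingCat.Hom.hom hφψ,
            ← Ideal.map_map]
          exact Ideal.map_mono (Ideal.map_le_iff_le_comap.mpr hJJ)
        exact hle h2)
  have e₁ : Φ ≫ thkFst inc' J' = thkFst inc J ≫ ψ := rfl
  have e₂ : Φ ≫ thkSnd inc' J' = thkSnd inc J ≫ φ₀ := rfl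
  have e₃ : Φ ≫ sigma ε' hJ' = sigma ε hJ ≫ φ := CommRingCat.hom_ext (RingHom.ext fun w => hε w.1.1)
  refine ⟨Spec.map Φ ≫ z, ?_, ?_, ?_⟩
  · rw [← Spec.map_comp_assoc, e₁, Spec.map_comp_assoc, h₁]
  · rw [← Spec.map_comp_assoc, e₂, Spec.map_comp_assoc, h₂]
  · rw [← Spec.map_comp_assoc, e₃, Spec.map_comp_assoc]

end Avg

end Groth.Agent.Lib.MultAvg
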