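import Groth.Agent.Lib.MultAvg.Fixed
import Mathlib.RingTheory.TensorProduct.Maps

/-!
# Coordinate rings and integrals with values in algebras
-/

set_option autoImplicit false
universe u

open CategoryTheory MonoidalCategory CartesianMonoidalCategory MonObj GrpObj AlgebraicGeometry
open CategoryTheory.Limits TensorProduct
open Groth.Agent.H87.HomDS

namespace Groth.Agent.Lib.MultAvg

set_option linter.style.haveILetI false

variable {S : Scheme.{u}}

/-- The coordinate ring of an `S`-scheme over `Spec A`. -/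
structure Coord {A : CommRingCat.{u}} (t : Spec A ⟶ S) (H : Over S) where
  /-- coordinate ring -/
  C : CommRingCat.{u}
  /-- structure map -/
  inc : A ⟶ C
  /-- universal point -/
  univ : test t inc ⟶ H
  fac : ∀ (X : Over S) (q : X.left ⟶ Spec A), q ≫ t = X.hom → ∀ h : X ⟶ H,
    ∃ r : X ⟶ test t inc, r ≫ univ = h ∧ r.left ≫ Spec.map inc = q
  uniq : ∀ {D : CommRingCat.{u}} (α β : C ⟶ D),
    Spec.map α ≫ univ.left = Spec.map β ≫ univ.left → inc ≫ α = inc ≫ β → α = β

theorem exists_coord {A : CommRingCat.{u}} (t : Spec A ⟶ S) (H : Over S) [IsAffineHom H.hom] :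
    Nonempty (Coord t H) := by
  let P := pullback H.hom t
  let fst : P ⟶ H.left := pullback.fst H.hom t
  let snd : P ⟶ Spec A := pullback.snd H.hom t
  haveI : IsAffine P := isAffine_of_isAffineHom snd
  obtain ⟨inc, hinc⟩ : ∃ inc : A ⟶ Γ(P, ⊤), P.isoSpec.inv ≫ snd = Spec.map inc :=
    ⟨_, (Spec.map_preimage _).symm⟩
  have hcond : fst ≫ H.hom = snd ≫ t := pullback.condition
  refine ⟨⟨Γ(P, ⊤), inc, Over.homMk (P.isoSpec.inv ≫ fst) ?_, fun X q hq h => ?_, fun α β h₁ h₂ => ?_⟩⟩
  · show (P.isoSpec.inv ≫ fst) ≫ H.hom = Spec.map inc ≫ t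
    rw [← hinc, Category.assoc, Category.assoc, hcond]
  · let l : X.left ⟶ P := pullback.lift h.left q (by rw [Over.w h, hq])
    refine ⟨Over.homMk (l ≫ P.isoSpec.hom) ?_, ?_, ?_⟩
    · show (l ≫ P.isoSpec.hom) ≫ Spec.map inc ≫ t = X.hom
      rw [← hinc, Category.assoc, Category.assoc, Iso.hom_inv_id_assoc, ← hq]
      exact pullback.lift_snd_assoc _ _ _ _
    · apply Over.OverMorphism.ext
      show (l ≫ P.isoSpec.hom) ≫ P.isoSpec.inv ≫ fst = h.left
      rw [Category.assoc, Iso.hom_inv_id_assoc]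
      exact pullback.lift_fst _ _ _
    · show (l ≫ P.isoSpec.hom) ≫ Spec.map inc = q
      rw [← hinc, Category.assoc, Iso.hom_inv_id_assoc]
      exact pullback.lift_snd _ _ _
  · apply Spec.map_injective
    rw [← cancel_mono P.isoSpec.inv]
    apply pullback.hom_ext
    · rw [Category.assoc, Category.assoc]
      exact h₁
    · have h3 := congrArg Spec.map h₂
      rw [Spec.map_comp, Spec.map_comp, ← hinc] at h3
      rw [Category.assoc, Category.assoc]
      exact h3

namespace Coord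

variable {A : CommRingCat.{u}} {t : Spec A ⟶ S} {H : Over S} (d : Coord t H)

instance algebra : Algebra A d.C := d.inc.hom.toAlgebra

/-- The coordinate ring of pairs. -/
noncomputable abbrev C₂ : CommRingCat.{u} := CommRingCat.of (d.C ⊗[A] d.C)

/-- First projection. -/
noncomputable def p₁ : d.C ⟶ d.C₂ :=
  CommRingCat.ofHom (Algebra.TensorProduct.includeLeft (R := A) (S := A) (A := d.C) (B := d.C)).toRingHom

/-- Second projection. -/
noncomputable def p₂ : d.C ⟶ d.C₂ :=
  CommRingCat.ofHom (Algebra.TensorProduct.includeRight (R := A) (A := d.C) (B := d.C)).toRingHom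

theorem w₂ : d.inc ≫ d.p₂ = d.inc ≫ d.p₁ := by
  refine CommRingCat.hom_ext (RingHom.ext fun a => ?_)
  show Algebra.TensorProduct.includeRight (R := A) (A := d.C) (B := d.C) (algebraMap A d.C a) =
    Algebra.TensorProduct.includeLeft (R := A) (S := A) (A := d.C) (B := d.C) (algebraMap A d.C a)
  rw [AlgHom.commutes, AlgHom.commutes]

variable [GrpObj H]

theorem exists_mul : ∃ (m : d.C ⟶ d.C₂) (wm : d.inc ≫ m = d.inc ≫ d.p₁),
    tmap t m wm ≫ d.univ =
      (tmap t d.p₁ (show d.inc ≫ d.p₁ = d.inc ≫ d.p₁ from rfl) ≫ d.univ) * (tmap t d.p₂ d.w₂ ≫ d.univ) := by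
  obtain ⟨r, hr, hr'⟩ := d.fac _ (Spec.map (d.inc ≫ d.p₁)) rfl
    ((tmap t d.p₁ (show d.inc ≫ d.p₁ = d.inc ≫ d.p₁ from rfl) ≫ d.univ) * (tmap t d.p₂ d.w₂ ≫ d.univ))
  have wm : d.inc ≫ Spec.preimage r.left = d.inc ≫ d.p₁ := by
    apply Spec.map_injective
    rw [Spec.map_comp, Spec.map_preimage]
    exact hr'
  refine ⟨Spec.preimage r.left, wm, ?_⟩
  rw [← hr]
  congr 1
  exact Over.OverMorphism.ext (Spec.map_preimage _)

/-- The comultiplication. -/
noncomputable def m : d.C ⟶ d.C₂ := d.exists_mul.choose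

theorem wm : d.inc ≫ d.m = d.inc ≫ d.p₁ := d.exists_mul.choose_spec.choose

theorem mul_eq : tmap t d.m d.wm ≫ d.univ =
    (tmap t d.p₁ (show d.inc ≫ d.p₁ = d.inc ≫ d.p₁ from rfl) ≫ d.univ) * (tmap t d.p₂ d.w₂ ≫ d.univ) :=
  d.exists_mul.choose_spec.choose_spec

variable {B B' : Type u} [CommRing B] [Algebra A B] [CommRing B'] [Algebra A B']

/-- An invariant integral with values in an algebra. -/
structure IsIntegral (f : d.C →ₗ[A] B) : Prop where
  one : f 1 = 1
  left : ∀ c, f.rTensor d.C (d.m.hom c) = f c ⊗ₜ 1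
  right : ∀ c, f.lTensor d.C (d.m.hom c) = 1 ⊗ₜ f c

variable {d}

theorem IsIntegral.comp {f : d.C →ₗ[A] B} (h : d.IsIntegral f) (g : B →ₐ[A] B') :
    d.IsIntegral (g.toLinearMap ∘ₗ f) := by
  refine ⟨by simp [h.one], fun c => ?_, fun c => ?_⟩
  · rw [LinearMap.rTensor_comp, LinearMap.comp_apply, h.left]
    simp
  · rw [LinearMap.lTensor_comp, LinearMap.comp_apply, h.right]
    simp

/-- Invariant integrals are unique. -/
theorem IsIntegral.unique {f f' : d.C →ₗ[A] B} (h : d.IsIntegral f) (h' : d.IsIntegral f') :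
    f = f' := by
  refine LinearMap.ext fun c => ?_
  have e₁ := congrArg (fun z => LinearMap.mul' A B (f'.lTensor B z)) (h.left c)
  have e₂ := congrArg (fun z => LinearMap.mul' A B (f.rTensor B z)) (h'.right c)
  have e : ∀ z : d.C ⊗[A] d.C, f'.lTensor B (f.rTensor d.C z) = f.rTensor B (f'.lTensor d.C z) := fun z => by
    induction z using TensorProduct.induction_on with
    | zero => simp
    | tmul x y => simp
    | add x y hx hy => simp only [map_add, hx, hy]
  simp only [LinearMap.lTensor_tmul, LinearMap.rTensor_tmul, LinearMap.mul'_apply, h'.one, h.one,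
    _root_.mul_one, _root_.one_mul] at e₁ e₂
  exact e₁.symm.trans ((congrArg _ (e _)).trans e₂)

end Coord

end Groth.Agent.Lib.MultAvg
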