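import Groth.Agent.Lib.MultAvg.Avg
import Groth.Agent.H87.HomDS
import Groth.Prelude.Def_AlgGrp

/-!
# Fixed lifts of fixed points under a group with an invariant integral

An `S`-group `H` carrying, over `Spec A`, an invariant integral (`IntData`) acts on an arbitrary
`S`-scheme `X`; a point of `X` over `Spec A` which is fixed modulo a square-zero ideal is congruent
to a fixed point, namely the average of its orbit map.
-/

set_option autoImplicit false
universe u

open CategoryTheory MonoidalCategory CartesianMonoidalCategory MonObj GrpObj AlgebraicGeometry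
open CategoryTheory.Limits
open Groth.Agent.H87.HomDS

namespace Groth.Agent.Lib.MultAvg

set_option linter.style.haveILetI false

variable {S : Scheme.{u}}

/-- A morphism of test objects. -/
noncomputable def tmap {A : CommRingCat.{u}} (t : Spec A ⟶ S) {D D' : CommRingCat.{u}} {φ : A ⟶ D}
    {φ' : A ⟶ D'} (ψ : D ⟶ D') (h : φ ≫ ψ = φ') : test t φ' ⟶ test t φ :=
  Over.homMk (Spec.map ψ) (by subst h; simp [Spec.map_comp])

/-- The coordinate ring and invariant integral of an `S`-group over `Spec A`. -/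
structure IntData {A : CommRingCat.{u}} (t : Spec A ⟶ S) (H : Over S) [GrpObj H] where
  /-- coordinate ring -/
  C : CommRingCat.{u}
  /-- structure map -/
  inc : A ⟶ C
  /-- universal point -/
  univ : test t inc ⟶ H
  fac : ∀ (X : Over S) (q : X.left ⟶ Spec A), q ≫ t = X.hom → ∀ h : X ⟶ H,
    ∃ r : X ⟶ test t inc, r ≫ univ = h ∧ r.left ≫ Spec.map inc = q
  /-- coordinate ring of pairs -/
  C₂ : CommRingCat.{u}
  /-- first projection -/
  p₁ : C ⟶ C₂
  /-- second projection -/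
  p₂ : C ⟶ C₂
  /-- product -/
  m : C ⟶ C₂
  w₂ : inc ≫ p₂ = inc ≫ p₁
  wm : inc ≫ m = inc ≫ p₁
  mul : tmap t m wm ≫ univ =
    (tmap t p₁ (show inc ≫ p₁ = inc ≫ p₁ from rfl) ≫ univ) * (tmap t p₂ w₂ ≫ univ)
  /-- the integral -/
  ε : Fnl inc
  /-- integration in the second variable -/
  E : Fnl p₁
  E_m : ∀ c, E.toFun (m.hom c) = inc.hom (ε.toFun c)
  E_p₂ : ∀ c, E.toFun (p₂.hom c) = inc.hom (ε.toFun c)

variable {H X : Over S} [GrpObj H]

/-- **Fixed lifts.** A point over `Spec A` fixed modulo a square-zero ideal is congruent to a fixed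
point. -/
theorem exists_fixed {A : CommRingCat.{u}} {t : Spec A ⟶ S} (d : IntData t H) (J : Ideal A)
    (hJ : J ^ 2 = ⊥) (act : H ⊗ X ⟶ X)
    (hact : ∀ (Y : Over S) (h h' : Y ⟶ H) (x : Y ⟶ X),
      lift (h * h') x ≫ act = lift h (lift h' x ≫ act) ≫ act)
    (ξ : test t (𝟙 A) ⟶ X)
    (h0 : ∀ (Y : Over S) (p : Y ⟶ test t (mkA J)) (h : Y ⟶ H),
      lift h (p ≫ tmap t (φ := 𝟙 A) (mkA J) (Category.id_comp _) ≫ ξ) ≫ act =
        p ≫ tmap t (φ := 𝟙 A) (mkA J) (Category.id_comp _) ≫ ξ) :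
    ∃ xb : test t (𝟙 A) ⟶ X,
      tmap t (φ := 𝟙 A) (mkA J) (Category.id_comp _) ≫ xb =
        tmap t (φ := 𝟙 A) (mkA J) (Category.id_comp _) ≫ ξ ∧
      ∀ (Y : Over S) (p : Y ⟶ test t (𝟙 A)) (h : Y ⟶ H), lift h (p ≫ xb) ≫ act = p ≫ xb := by
  obtain ⟨C, inc, univ, fac, C₂, p₁, p₂, m, w₂, wm, hmul, ε, E, E_m, E_p₂⟩ := d
  let m₀ := tmap t (φ := 𝟙 A) (mkA J) (Category.id_comp _)
  let x₀ : test t (mkA J) ⟶ X := m₀ ≫ ξ
  let pr : test t inc ⟶ test t (𝟙 A) := tmap t inc (Category.id_comp _)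
  let y : test t inc ⟶ X := lift univ (pr ≫ ξ) ≫ act
  let M : test t (inc ≫ mkC inc J) ⟶ test t inc := tmap t (mkC inc J) rfl
  let π₀ : test t (inc ≫ mkC inc J) ⟶ test t (mkA J) := tmap t (inc₀ inc J) (mkA_inc₀ inc J)
  have hy : M ≫ y = π₀ ≫ x₀ := by
    show M ≫ lift univ (pr ≫ ξ) ≫ act = π₀ ≫ m₀ ≫ ξ
    have e : M ≫ pr = π₀ ≫ m₀ := Over.OverMorphism.ext (by
      show Spec.map _ ≫ Spec.map _ = Spec.map _ ≫ Spec.map _
      rw [← Spec.map_comp, ← Spec.map_comp]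
      rfl)
    rw [comp_lift_assoc, reassoc_of% e]
    exact h0 _ π₀ _
  obtain ⟨v, hv⟩ := exists_isAvg ε hJ y.left x₀.left (congrArg CommaMorphism.left hy)
  have hvw : v ≫ X.hom = t := by
    have h1 := hv.comp X.hom
    rw [Over.w y, Over.w x₀] at h1
    exact h1.unique (isAvg_const ε hJ t)
  let xb : test t (𝟙 A) ⟶ X := Over.homMk v (by simpa using hvw)
  have hxb : m₀ ≫ xb = x₀ := Over.OverMorphism.ext hv.mod
  -- the orbit of the average
  let J' : Ideal C := J.map inc.hom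
  have hJ' : J' ^ 2 = ⊥ := by rw [← Ideal.map_pow, hJ, Ideal.map_bot]
  have hJJ : J ≤ J'.comap inc.hom := Ideal.le_comap_map
  let P₁ : test t (inc ≫ p₁) ⟶ test t inc := tmap t p₁ rfl
  let P₂ : test t (inc ≫ p₁) ⟶ test t inc := tmap t p₂ w₂
  let Pm : test t (inc ≫ p₁) ⟶ test t inc := tmap t m wm
  let W : test t (inc ≫ p₁) ⟶ H ⊗ X := lift (P₁ ≫ univ) (P₂ ≫ y)
  let W₀ : test t (inc ≫ mkC inc J) ⟶ H ⊗ X := lift (M ≫ univ) (π₀ ≫ x₀)
  let M₂ : test t (inc ≫ p₁ ≫ mkC p₁ J') ⟶ test t (inc ≫ p₁) :=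
    tmap t (mkC p₁ J') (Category.assoc _ _ _)
  let π₂ : test t (inc ≫ p₁ ≫ mkC p₁ J') ⟶ test t (inc ≫ mkC inc J) :=
    tmap t (inc₀ p₁ J') (by rw [Category.assoc]; rfl)
  have h21 : M₂ ≫ P₁ = π₂ ≫ M := Over.OverMorphism.ext (by
    show Spec.map _ ≫ Spec.map _ = Spec.map _ ≫ Spec.map _
    rw [← Spec.map_comp, ← Spec.map_comp]
    rfl)
  have h22 : M₂ ≫ P₂ ≫ y = π₂ ≫ π₀ ≫ x₀ := by
    have hle : J' ≤ (J'.map p₁.hom).comap p₂.hom := by
      rw [Ideal.map_le_iff_le_comap]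
      intro a ha
      rw [Ideal.mem_comap, Ideal.mem_comap,
        show p₂.hom (inc.hom a) = p₁.hom (inc.hom a) from congr((CommRingCat.Hom.hom $w₂) a)]
      exact Ideal.mem_map_of_mem _ (Ideal.mem_map_of_mem _ ha)
    let Q : test t (inc ≫ p₁ ≫ mkC p₁ J') ⟶ test t (inc ≫ mkC inc J) :=
      tmap t (CommRingCat.ofHom (Ideal.quotientMap (J'.map p₁.hom) p₂.hom hle)) (by
        show inc ≫ p₂ ≫ mkC p₁ J' = _
        rw [← Category.assoc, w₂, Category.assoc])
    have e1 : M₂ ≫ P₂ = Q ≫ M := Over.OverMorphism.ext (by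
      show Spec.map _ ≫ Spec.map _ = Spec.map _ ≫ Spec.map _
      rw [← Spec.map_comp, ← Spec.map_comp]
      rfl)
    have e2 : Q ≫ π₀ = π₂ ≫ π₀ := Over.OverMorphism.ext (by
      show Spec.map _ ≫ Spec.map _ = Spec.map _ ≫ Spec.map _
      rw [← Spec.map_comp, ← Spec.map_comp]
      congr 1
      refine CommRingCat.hom_ext (Ideal.Quotient.ringHom_ext (RingHom.ext fun a => ?_))
      show Ideal.Quotient.mk _ (p₂.hom (inc.hom a)) = Ideal.Quotient.mk _ (p₁.hom (inc.hom a))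
      rw [show p₂.hom (inc.hom a) = p₁.hom (inc.hom a) from congr((CommRingCat.Hom.hom $w₂) a)])
    rw [reassoc_of% e1, hy, reassoc_of% e2]
  have hWmod : M₂ ≫ W = π₂ ≫ W₀ := by
    show M₂ ≫ lift _ _ = π₂ ≫ lift _ _
    rw [comp_lift, comp_lift, reassoc_of% h21, h22]
  obtain ⟨w, hw⟩ := exists_isAvg E hJ' W.left W₀.left (congrArg CommaMorphism.left hWmod)
  let V : test t inc ⟶ H ⊗ X := lift univ (pr ≫ xb)
  have hfst : w ≫ (CartesianMonoidalCategory.fst H X).left =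
      V.left ≫ (CartesianMonoidalCategory.fst H X).left := by
    have h1 := hw.comp (CartesianMonoidalCategory.fst H X).left
    rw [← Over.comp_left, ← Over.comp_left, lift_fst, lift_fst] at h1
    rw [← Over.comp_left, lift_fst]
    exact h1.unique (isAvg_const E hJ' univ.left)
  have hsnd : w ≫ (CartesianMonoidalCategory.snd H X).left =
      V.left ≫ (CartesianMonoidalCategory.snd H X).left := by
    have h1 := hw.comp (CartesianMonoidalCategory.snd H X).left
    rw [← Over.comp_left, ← Over.comp_left, lift_snd, lift_snd] at h1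
    rw [← Over.comp_left, lift_snd]
    exact h1.unique (hv.map E hJ' inc p₂ w₂ hJJ E_p₂)
  have hwV : w = V.left := pullback.hom_ext hfst hsnd
  subst hwV
  have hWact : W ≫ act = Pm ≫ y := by
    show lift _ (P₂ ≫ lift univ (pr ≫ ξ) ≫ act) ≫ act = Pm ≫ lift univ (pr ≫ ξ) ≫ act
    rw [comp_lift_assoc, comp_lift_assoc, hmul, hact]
    congr 4
    rw [← Category.assoc, ← Category.assoc]
    congr 1
    apply Over.OverMorphism.ext
    show Spec.map p₂ ≫ Spec.map inc = Spec.map m ≫ Spec.map inc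
    rw [← Spec.map_comp, ← Spec.map_comp, w₂, wm]
  have hW₀act : W₀ ≫ act = π₀ ≫ x₀ := h0 _ π₀ _
  have huniv : V ≫ act = pr ≫ xb := by
    apply Over.OverMorphism.ext
    have h1 := hw.comp act.left
    rw [← Over.comp_left, ← Over.comp_left, hWact, hW₀act] at h1
    exact h1.unique (hv.map E hJ' inc m wm hJJ E_m)
  refine ⟨xb, hxb, fun Y p h => ?_⟩
  obtain ⟨r, hr, hr'⟩ := fac Y p.left (by simpa using Over.w p) h
  have hp : p = r ≫ pr := Over.OverMorphism.ext hr'.symm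
  rw [← hr, hp, Category.assoc, ← comp_lift_assoc]
  exact congrArg (r ≫ ·) huniv

end Groth.Agent.Lib.MultAvg
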