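import Groth.Agent.Lib.MultAvg.Exists

/-!
# Averaging turns a homomorphism modulo a square-zero ideal into a homomorphism

If `f` is a point of a group `K` with values in the coordinate ring of `H` which is multiplicative
modulo `J` (`J ^ 2 = 0`), then the average over `y` of `f (x y) * (f y)⁻¹` is multiplicative and
congruent to `f`. No hypothesis on `K` is needed.
-/

set_option autoImplicit false
universe u

open CategoryTheory MonoidalCategory CartesianMonoidalCategory MonObj GrpObj AlgebraicGeometry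
open CategoryTheory.Limits TensorProduct
open Groth.Agent.H87.HomDS

namespace Groth.Agent.Lib.MultAvg

set_option linter.style.haveILetI false

variable {S : Scheme.{u}} {A : CommRingCat.{u}} {t : Spec A ⟶ S} {K : Over S}

/-- Morphisms are determined on affine test schemes. -/
theorem ext_affine {Y Z : Scheme.{u}} (a b : Y ⟶ Z)
    (h : ∀ (E : CommRingCat.{u}) (s : Spec E ⟶ Y), s ≫ a = s ≫ b) : a = b := by
  refine Scheme.Cover.hom_ext Y.affineCover _ _ fun k => ?_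
  haveI : IsAffine (Y.affineCover.X k) := inferInstanceAs (IsAffine (Spec _))
  rw [← cancel_epi (Y.affineCover.X k).isoSpec.inv, ← Category.assoc, ← Category.assoc]
  exact h _ _

theorem tmap_tmap {D D' D'' : CommRingCat.{u}} {φ : A ⟶ D} {φ' : A ⟶ D'} {φ'' : A ⟶ D''}
    (ψ : D ⟶ D') (h : φ ≫ ψ = φ') (ψ' : D' ⟶ D'') (h' : φ' ≫ ψ' = φ'') :
    tmap t ψ' h' ≫ tmap t ψ h = tmap t (ψ ≫ ψ') (by rw [← Category.assoc, h, h']) :=
  Over.OverMorphism.ext (Spec.map_comp ψ ψ').symm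

theorem tmap_congr {D D' : CommRingCat.{u}} {φ : A ⟶ D} {φ' : A ⟶ D'} {ψ ψ' : D ⟶ D'}
    (e : ψ = ψ') (h : φ ≫ ψ = φ') : tmap t ψ h = tmap t ψ' (e ▸ h) := by subst e; rfl

section Mul

variable [GrpObj K] {A' C' : CommRingCat.{u}} {φ : A ⟶ A'} {inc' : A' ⟶ C'} {ε : Fnl inc'}
  {J' : Ideal A'} {hJ' : J' ^ 2 = ⊥}

/-- Averages are multiplicative. -/
theorem IsAvg.mul {a b : test t (φ ≫ inc') ⟶ K} {a₀ b₀ : test t (φ ≫ mkA J') ⟶ K}
    {xa xb : test t φ ⟶ K} (ha : IsAvg ε hJ' a.left a₀.left xa.left)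
    (hb : IsAvg ε hJ' b.left b₀.left xb.left) :
    IsAvg ε hJ' (a * b).left (a₀ * b₀).left (xa * xb).left := by
  obtain ⟨za, ha₁, ha₂, ha₃⟩ := ha
  obtain ⟨zb, hb₁, hb₂, hb₃⟩ := hb
  let F : test t (φ ≫ inc') ⟶ test t (φ ≫ thkInc inc' J') :=
    tmap t (thkFst inc' J') (Category.assoc φ _ _)
  let G : test t (φ ≫ mkA J') ⟶ test t (φ ≫ thkInc inc' J') :=
    tmap t (thkSnd inc' J') (Category.assoc φ _ _)
  let T : test t φ ⟶ test t (φ ≫ thkInc inc' J') :=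
    tmap t (sigma ε hJ') (by rw [Category.assoc, thkInc_sigma, Category.comp_id])
  have hw : ∀ (z : Spec (Thk inc' J') ⟶ K.left) (a : test t (φ ≫ inc') ⟶ K)
      (a₀ : test t (φ ≫ mkA J') ⟶ K), Spec.map (thkFst inc' J') ≫ z = a.left →
      Spec.map (thkSnd inc' J') ≫ z = a₀.left → z ≫ K.hom = Spec.map (φ ≫ thkInc inc' J') ≫ t := by
    intro z a a₀ h₁ h₂
    refine (isPushout inc' J').hom_ext ?_ ?_
    · rw [← Category.assoc, h₁, ← Spec.map_comp_assoc, Over.w a]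
      rfl
    · rw [← Category.assoc, h₂, ← Spec.map_comp_assoc, Over.w a₀]
      rfl
  let Za : test t (φ ≫ thkInc inc' J') ⟶ K := Over.homMk za (hw za a a₀ ha₁ ha₂)
  let Zb : test t (φ ≫ thkInc inc' J') ⟶ K := Over.homMk zb (hw zb b b₀ hb₁ hb₂)
  have e₁ : F ≫ (Za * Zb) = a * b := by
    rw [MonObj.comp_mul, show F ≫ Za = a from Over.OverMorphism.ext ha₁,
      show F ≫ Zb = b from Over.OverMorphism.ext hb₁]
  have e₂ : G ≫ (Za * Zb) = a₀ * b₀ := by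
    rw [MonObj.comp_mul, show G ≫ Za = a₀ from Over.OverMorphism.ext ha₂,
      show G ≫ Zb = b₀ from Over.OverMorphism.ext hb₂]
  have e₃ : T ≫ (Za * Zb) = xa * xb := by
    rw [MonObj.comp_mul, show T ≫ Za = xa from Over.OverMorphism.ext ha₃,
      show T ≫ Zb = xb from Over.OverMorphism.ext hb₃]
  exact ⟨(Za * Zb).left, congrArg CommaMorphism.left e₁, congrArg CommaMorphism.left e₂,
    congrArg CommaMorphism.left e₃⟩

end Mul

namespace Coord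

variable {H : Over S} (d : Coord t H)

/-- Points into the coordinate ring are determined by their two projections. -/
theorem pt_ext {T : Scheme.{u}} (l l' : T ⟶ Spec d.C) (h₁ : l ≫ d.univ.left = l' ≫ d.univ.left)
    (h₂ : l ≫ Spec.map d.inc = l' ≫ Spec.map d.inc) : l = l' := by
  refine ext_affine _ _ fun E s => ?_
  rw [← Spec.map_preimage (s ≫ l), ← Spec.map_preimage (s ≫ l')]
  refine congrArg Spec.map (d.uniq _ _ ?_ ?_)
  · rw [Spec.map_preimage, Spec.map_preimage, Category.assoc, Category.assoc, h₁]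
  · apply Spec.map_injective
    rw [Spec.map_comp, Spec.map_comp, Spec.map_preimage, Spec.map_preimage, Category.assoc,
      Category.assoc, h₂]

/-- A pair of points of the coordinate ring. -/
theorem exists_pair {E : CommRingCat.{u}} (α β : d.C ⟶ E) (h : d.inc ≫ β = d.inc ≫ α) :
    ∃ γ : d.C₂ ⟶ E, d.p₁ ≫ γ = α ∧ d.p₂ ≫ γ = β := by
  letI : Algebra A E := (d.inc ≫ α).hom.toAlgebra
  let a : d.C →ₐ[A] E := { α.hom with commutes' := fun r => rfl }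
  let b : d.C →ₐ[A] E := { β.hom with commutes' := fun r => congr((CommRingCat.Hom.hom $h) r) }
  refine ⟨CommRingCat.ofHom (Algebra.TensorProduct.lift a b fun _ _ => Commute.all _ _).toRingHom,
    ?_, ?_⟩ <;> ext c <;> simp [Coord.p₁, Coord.p₂] <;> rfl

/-- The value of a point of `Spec d.C`. -/
noncomputable def ev {Z : Over S} (f : test t d.inc ⟶ Z) {D : CommRingCat.{u}} {φ : A ⟶ D}
    (α : d.C ⟶ D) (h : d.inc ≫ α = φ) : test t φ ⟶ Z :=
  tmap t α h ≫ f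

theorem tmap_ev {Z : Over S} (f : test t d.inc ⟶ Z) {D D' : CommRingCat.{u}} {φ : A ⟶ D}
    {φ' : A ⟶ D'} (α : d.C ⟶ D) (h : d.inc ≫ α = φ) (ψ : D ⟶ D') (h' : φ ≫ ψ = φ') :
    tmap t ψ h' ≫ d.ev f α h = d.ev f (α ≫ ψ) (by rw [← Category.assoc, h, h']) := by
  rw [ev, ev, ← Category.assoc, tmap_tmap]

theorem ev_congr {Z : Over S} (f : test t d.inc ⟶ Z) {D : CommRingCat.{u}} {φ : A ⟶ D}
    {α α' : d.C ⟶ D} (e : α = α') (h : d.inc ≫ α = φ) : d.ev f α h = d.ev f α' (e ▸ h) := by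
  subst e; rfl

variable [GrpObj H]

theorem ev_univ_mul {E : CommRingCat.{u}} (γ : d.C₂ ⟶ E) :
    d.ev d.univ (φ := d.inc ≫ d.p₁ ≫ γ) (d.m ≫ γ) (by rw [reassoc_of% d.wm]) =
      d.ev d.univ (d.p₁ ≫ γ) rfl * d.ev d.univ (d.p₂ ≫ γ) (by rw [reassoc_of% d.w₂]) := by
  have h := congrArg (tmap t γ (φ' := d.inc ≫ d.p₁ ≫ γ) (Category.assoc _ _ _) ≫ ·) d.mul_eq
  simp only [MonObj.comp_mul] at h
  simpa only [ev, ← Category.assoc, tmap_tmap] using h

variable [GrpObj K]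

/-- `f` is multiplicative on the points killed by `J`. -/
def MulMod (J : Ideal A) (f : test t d.inc ⟶ K) : Prop :=
  ∀ {E : CommRingCat.{u}} (γ : d.C₂ ⟶ E), (∀ a ∈ J, (d.inc ≫ d.p₁ ≫ γ).hom a = 0) →
    d.ev f (φ := d.inc ≫ d.p₁ ≫ γ) (d.m ≫ γ) (by rw [reassoc_of% d.wm]) =
      d.ev f (d.p₁ ≫ γ) rfl * d.ev f (d.p₂ ≫ γ) (by rw [reassoc_of% d.w₂])

/-- **Averaging.** -/
theorem exists_mulMod_bot {ε : d.C →ₗ[A] A} (hε : d.IsIntegral ε) (J : Ideal A) (hJ : J ^ 2 = ⊥)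
    (f : test t d.inc ⟶ K) (hf : d.MulMod J f) :
    ∃ f' : test t d.inc ⟶ K, Spec.map (mkC d.inc J) ≫ f'.left = Spec.map (mkC d.inc J) ≫ f.left ∧
      d.MulMod ⊥ f' := by
  -- the integral in the last variable
  let E₁ : Fnl d.p₁ :=
    { toFun := ((TensorProduct.rid A d.C).toLinearMap ∘ₗ ε.lTensor d.C).toAddMonoidHom
      lin := fun a c => by
        induction c using TensorProduct.induction_on with
        | zero => simp
        | add x y hx hy => simp only [_root_.mul_add, map_add, hx, hy]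
        | tmul x y =>
          show TensorProduct.rid A d.C (ε.lTensor d.C ((a ⊗ₜ[A] (1 : d.C)) * (x ⊗ₜ[A] y))) =
            a * TensorProduct.rid A d.C (ε.lTensor d.C (x ⊗ₜ[A] y))
          simp [Algebra.TensorProduct.tmul_mul_tmul]
      one := by
        show TensorProduct.rid A d.C (ε.lTensor d.C ((1 : d.C) ⊗ₜ[A] (1 : d.C))) = 1
        simp [hε.one] }
  have E₁_tmul : ∀ x y, E₁.toFun (x ⊗ₜ[A] y) = x * algebraMap A d.C (ε y) := fun x y => by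
    show TensorProduct.rid A d.C (ε.lTensor d.C (x ⊗ₜ[A] y)) = _
    simp [Algebra.smul_def, _root_.mul_comm]
  have E₁_m : ∀ c, E₁.toFun (d.m.hom c) = algebraMap A d.C (ε c) := fun c => by
    show TensorProduct.rid A d.C (ε.lTensor d.C (d.m.hom c)) = algebraMap A d.C (ε c)
    rw [hε.right, TensorProduct.rid_tmul, Algebra.smul_def, _root_.mul_one]
  let J' : Ideal d.C := J.map d.inc.hom
  have hJ' : J' ^ 2 = ⊥ := by rw [← Ideal.map_pow, hJ, Ideal.map_bot]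
  let J₂ : Ideal d.C₂ := J'.map d.p₁.hom
  have hJ₂ : J₂ ^ 2 = ⊥ := by rw [← Ideal.map_pow, hJ', Ideal.map_bot]
  -- the integrand
  let W : test t (d.inc ≫ d.p₁) ⟶ K := d.ev f d.m d.wm * (d.ev f d.p₂ d.w₂)⁻¹
  let W₀ : test t (d.inc ≫ mkC d.inc J) ⟶ K := d.ev f (mkC d.inc J) rfl
  have hW : Spec.map (mkC d.p₁ J') ≫ W.left = Spec.map (inc₀ d.p₁ J') ≫ W₀.left := by
    have e₁ : tmap t (mkC d.p₁ J') (φ' := d.inc ≫ d.p₁ ≫ mkC d.p₁ J') (Category.assoc _ _ _) ≫ W =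
        tmap t (inc₀ d.p₁ J') (φ' := d.inc ≫ d.p₁ ≫ mkC d.p₁ J')
          (by rw [Category.assoc]; rfl) ≫ W₀ := by
      rw [MonObj.comp_mul, GrpObj.comp_inv, tmap_ev, tmap_ev, tmap_ev,
        d.ev_congr f (show mkC d.inc J ≫ inc₀ d.p₁ J' = d.p₁ ≫ mkC d.p₁ J' from rfl),
        hf (mkC d.p₁ J') fun a ha => Ideal.Quotient.eq_zero_iff_mem.mpr
          (Ideal.mem_map_of_mem _ (Ideal.mem_map_of_mem _ ha))]
      exact mul_inv_cancel_right _ _
    exact congrArg CommaMorphism.left e₁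
  obtain ⟨v, hv⟩ := exists_isAvg E₁ hJ' W.left W₀.left hW
  have hvw : v ≫ K.hom = Spec.map d.inc ≫ t := by
    have h1 := hv.comp K.hom
    rw [Over.w W, Over.w W₀] at h1
    show _ = Spec.map d.inc ≫ t
    refine h1.unique ?_
    show IsAvg E₁ hJ' (Spec.map (d.inc ≫ d.p₁) ≫ t) (Spec.map (d.inc ≫ mkC d.inc J) ≫ t) _
    rw [Spec.map_comp_assoc, Spec.map_comp_assoc]
    exact isAvg_const E₁ hJ' _
  let f' : test t d.inc ⟶ K := Over.homMk v hvw
  refine ⟨f', hv.mod, ?_⟩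
  -- triples
  let C₃ : CommRingCat.{u} := CommRingCat.of ((d.C ⊗[A] d.C) ⊗[A] d.C)
  let il : d.C₂ ⟶ C₃ := CommRingCat.ofHom
    (Algebra.TensorProduct.includeLeft (R := A) (S := A) (A := d.C ⊗[A] d.C) (B := d.C)).toRingHom
  let E₂ : Fnl il :=
    { toFun := ((TensorProduct.rid A (d.C ⊗[A] d.C)).toLinearMap ∘ₗ
        ε.lTensor (d.C ⊗[A] d.C)).toAddMonoidHom
      lin := fun a c => by
        induction c using TensorProduct.induction_on with
        | zero => simp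
        | add x y hx hy => simp only [_root_.mul_add, map_add, hx, hy]
        | tmul x y =>
          show TensorProduct.rid A (d.C ⊗[A] d.C) (ε.lTensor (d.C ⊗[A] d.C)
              ((a ⊗ₜ[A] (1 : d.C)) * (x ⊗ₜ[A] y))) =
            a * TensorProduct.rid A (d.C ⊗[A] d.C) (ε.lTensor (d.C ⊗[A] d.C) (x ⊗ₜ[A] y))
          simp [Algebra.TensorProduct.tmul_mul_tmul]
      one := by
        show TensorProduct.rid A (d.C ⊗[A] d.C) (ε.lTensor (d.C ⊗[A] d.C)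
          ((1 : d.C ⊗[A] d.C) ⊗ₜ[A] (1 : d.C))) = 1
        simp [hε.one] }
  have E₂_tmul : ∀ x y, E₂.toFun (x ⊗ₜ[A] y) = x * algebraMap A (d.C ⊗[A] d.C) (ε y) := fun x y => by
    show TensorProduct.rid A (d.C ⊗[A] d.C) (ε.lTensor (d.C ⊗[A] d.C) (x ⊗ₜ[A] y)) = _
    simp [Algebra.smul_def, _root_.mul_comm]
  let q₁ : d.C →ₐ[A] d.C ⊗[A] d.C := Algebra.TensorProduct.includeLeft
  let q₂ : d.C →ₐ[A] d.C ⊗[A] d.C := Algebra.TensorProduct.includeRight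
  let qm : d.C →ₐ[A] d.C ⊗[A] d.C :=
    { d.m.hom with commutes' := fun r => congr((CommRingCat.Hom.hom $d.wm) r) }
  -- extension of a point to triples
  let ext : (d.C →ₐ[A] d.C ⊗[A] d.C) → (d.C ⊗[A] d.C →ₐ[A] (d.C ⊗[A] d.C) ⊗[A] d.C) := fun φ =>
    Algebra.TensorProduct.map φ (AlgHom.id A d.C)
  have hext : ∀ φ z, E₂.toFun (ext φ z) = φ (E₁.toFun z) := fun φ z => by
    induction z using TensorProduct.induction_on with
    | zero => simp
    | add x y hx hy => simp only [map_add, hx, hy]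
    | tmul x y =>
      rw [E₁_tmul, map_mul, φ.commutes]
      exact E₂_tmul (φ x) y
  let Φ : d.C ⊗[A] d.C →ₐ[A] (d.C ⊗[A] d.C) ⊗[A] d.C := Algebra.TensorProduct.lift
    ((Algebra.TensorProduct.includeLeft : d.C ⊗[A] d.C →ₐ[A] _).comp q₁) ((ext q₂).comp qm)
    fun _ _ => Commute.all _ _
  have hΦ : ∀ z, E₂.toFun (Φ z) = q₁ (E₁.toFun z) := fun z => by
    induction z using TensorProduct.induction_on with
    | zero => simp
    | add x y hx hy => simp only [map_add, hx, hy]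
    | tmul x y =>
      rw [E₁_tmul, map_mul, q₁.commutes, Algebra.TensorProduct.lift_tmul]
      refine (E₂.lin (q₁ x) (ext q₂ (qm y))).trans ?_
      rw [hext, show E₁.toFun (qm y) = _ from E₁_m y, AlgHom.commutes]
  let ψ₂ : d.C₂ ⟶ C₃ := CommRingCat.ofHom (ext q₂).toRingHom
  let ψm : d.C₂ ⟶ C₃ := CommRingCat.ofHom (ext qm).toRingHom
  let Ψ : d.C₂ ⟶ C₃ := CommRingCat.ofHom Φ.toRingHom
  have hP : d.p₁ ≫ Ψ = d.p₁ ≫ il := by
    refine CommRingCat.hom_ext (RingHom.ext fun c => ?_)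
    show Φ (c ⊗ₜ[A] (1 : d.C)) = il.hom (q₁ c)
    rw [Algebra.TensorProduct.lift_tmul, map_one, _root_.mul_one]
    rfl
  have hQ : d.p₂ ≫ Ψ = d.m ≫ ψ₂ := by
    refine CommRingCat.hom_ext (RingHom.ext fun c => ?_)
    show Φ ((1 : d.C) ⊗ₜ[A] c) = ext q₂ (qm c)
    rw [Algebra.TensorProduct.lift_tmul, map_one, _root_.one_mul]
    rfl
  have h₁₂ : d.p₁ ≫ ψ₂ = d.p₂ ≫ il := by
    refine CommRingCat.hom_ext (RingHom.ext fun c => ?_)
    show ext q₂ (c ⊗ₜ[A] (1 : d.C)) = _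
    rw [Algebra.TensorProduct.map_tmul, map_one]
    rfl
  have h₁m : d.p₁ ≫ ψm = d.m ≫ il := by
    refine CommRingCat.hom_ext (RingHom.ext fun c => ?_)
    show ext qm (c ⊗ₜ[A] (1 : d.C)) = _
    rw [Algebra.TensorProduct.map_tmul, map_one]
    rfl
  have h₂ : d.p₂ ≫ ψ₂ = d.p₂ ≫ ψm := by
    refine CommRingCat.hom_ext (RingHom.ext fun c => ?_)
    show ext q₂ ((1 : d.C) ⊗ₜ[A] c) = ext qm ((1 : d.C) ⊗ₜ[A] c)
    rw [Algebra.TensorProduct.map_tmul, Algebra.TensorProduct.map_tmul, map_one, map_one]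
  let φ₃ : A ⟶ C₃ := (d.inc ≫ d.p₁) ≫ il
  have w₂' : (d.inc ≫ d.p₁) ≫ ψ₂ = φ₃ := by
    show _ = (d.inc ≫ d.p₁) ≫ il
    rw [Category.assoc, h₁₂, ← Category.assoc, d.w₂]
  have wm' : (d.inc ≫ d.p₁) ≫ ψm = φ₃ := by
    show _ = (d.inc ≫ d.p₁) ≫ il
    rw [Category.assoc, h₁m, ← Category.assoc, d.wm]
  have wΨ : (d.inc ≫ d.p₁) ≫ Ψ = φ₃ := by
    show _ = (d.inc ≫ d.p₁) ≫ il
    rw [Category.assoc, hP, ← Category.assoc]
  have ia : ∀ α : d.C ⟶ d.C₂, d.inc ≫ α = d.inc ≫ d.p₁ → d.inc ≫ α ≫ il = φ₃ := fun α h => by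
    rw [← Category.assoc, h]
  -- associativity
  have hassoc : d.m ≫ Ψ = d.m ≫ ψm := by
    have hmul : ∀ (ψ : d.C₂ ⟶ C₃) (w : (d.inc ≫ d.p₁) ≫ ψ = φ₃),
        d.ev d.univ (d.m ≫ ψ) (by rw [← Category.assoc, d.wm, w]) =
          d.ev d.univ (d.p₁ ≫ ψ) (by rw [← Category.assoc, w]) *
            d.ev d.univ (d.p₂ ≫ ψ) (by rw [← Category.assoc, d.w₂, w]) := fun ψ w => by
      have h := congrArg (tmap t ψ w ≫ ·) d.mul_eq
      simp only [MonObj.comp_mul] at h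
      simpa only [ev, ← Category.assoc, tmap_tmap] using h
    have h : d.ev d.univ (d.m ≫ Ψ) (by rw [← Category.assoc, d.wm, wΨ]) =
        d.ev d.univ (d.m ≫ ψm) (by rw [← Category.assoc, d.wm, wm']) := by
      rw [hmul Ψ wΨ, hmul ψm wm', d.ev_congr d.univ hQ, hmul ψ₂ w₂', d.ev_congr d.univ hP,
        d.ev_congr d.univ h₁₂, d.ev_congr d.univ h₁m, d.ev_congr d.univ h₂]
      rw [show d.ev d.univ (d.m ≫ il) (ia _ d.wm) =
          d.ev d.univ (d.p₁ ≫ il) (ia _ rfl) * d.ev d.univ (d.p₂ ≫ il) (ia _ d.w₂) from hmul il rfl,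
        _root_.mul_assoc]
    refine d.uniq _ _ (congrArg CommaMorphism.left h) ?_
    rw [reassoc_of% d.wm, reassoc_of% d.wm, ← Category.assoc, ← Category.assoc, wΨ, wm']
  -- averages along the three maps
  have havg : ∀ (φ : d.C →ₐ[A] d.C ⊗[A] d.C) (ψ : d.C ⊗[A] d.C →ₐ[A] (d.C ⊗[A] d.C) ⊗[A] d.C)
      (hψ : ∀ c, ψ (c ⊗ₜ[A] (1 : d.C)) = φ c ⊗ₜ[A] (1 : d.C))
      (hE : ∀ z, E₂.toFun (ψ z) = φ (E₁.toFun z))
      (w : (d.inc ≫ d.p₁) ≫ (CommRingCat.ofHom ψ.toRingHom : d.C₂ ⟶ C₃) = φ₃)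
      (wφ : d.inc ≫ (CommRingCat.ofHom φ.toRingHom : d.C ⟶ d.C₂) = d.inc ≫ d.p₁),
      IsAvg E₂ hJ₂ (tmap t (CommRingCat.ofHom ψ.toRingHom : d.C₂ ⟶ C₃) w ≫ W).left
        (d.ev f ((CommRingCat.ofHom φ.toRingHom : d.C ⟶ d.C₂) ≫ mkA J₂)
          (φ := (d.inc ≫ d.p₁) ≫ mkA J₂) (by rw [← Category.assoc, wφ])).left
        (d.ev f' (CommRingCat.ofHom φ.toRingHom : d.C ⟶ d.C₂) wφ).left := by
    intro φ ψ hψ hE w wφ
    have hle : J' ≤ J₂.comap (CommRingCat.ofHom φ.toRingHom : d.C ⟶ d.C₂).hom := by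
      rw [Ideal.map_le_iff_le_comap]
      intro a ha
      rw [Ideal.mem_comap, Ideal.mem_comap]
      refine (congr((CommRingCat.Hom.hom $wφ) a)).symm ▸ ?_
      exact Ideal.mem_map_of_mem _ (Ideal.mem_map_of_mem _ ha)
    have h := hv.map E₂ hJ₂ (CommRingCat.ofHom φ.toRingHom : d.C ⟶ d.C₂)
      (CommRingCat.ofHom ψ.toRingHom : d.C₂ ⟶ C₃)
      (CommRingCat.hom_ext (RingHom.ext fun c => hψ c)) hle hE
    have e : (CommRingCat.ofHom φ.toRingHom : d.C ⟶ d.C₂) ≫ mkA J₂ =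
        mkC d.inc J ≫ CommRingCat.ofHom (Ideal.quotientMap J₂ (CommRingCat.ofHom φ.toRingHom : d.C ⟶ d.C₂).hom hle) :=
      rfl
    have hq : (d.inc ≫ mkC d.inc J) ≫ CommRingCat.ofHom
        (Ideal.quotientMap J₂ (CommRingCat.ofHom φ.toRingHom : d.C ⟶ d.C₂).hom hle) =
        (d.inc ≫ d.p₁) ≫ mkA J₂ := by
      rw [Category.assoc, ← e, ← Category.assoc, wφ]
    rw [d.ev_congr f e, ← d.tmap_ev f (mkC d.inc J) rfl _ hq]
    exact h
  have A₁ := havg q₁ Φ (fun c => congr((CommRingCat.Hom.hom $hP) c)) hΦ wΨ rfl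
  have A₂ := havg q₂ (ext q₂) (fun c => congr((CommRingCat.Hom.hom $h₁₂) c)) (hext q₂) w₂' d.w₂
  have Aₘ := havg qm (ext qm) (fun c => congr((CommRingCat.Hom.hom $h₁m) c)) (hext qm) wm' d.wm
  have hWψ : ∀ (ψ : d.C₂ ⟶ C₃) (w : (d.inc ≫ d.p₁) ≫ ψ = φ₃), tmap t ψ w ≫ W =
      d.ev f (d.m ≫ ψ) (by rw [← Category.assoc, d.wm, w]) *
        (d.ev f (d.p₂ ≫ ψ) (by rw [← Category.assoc, d.w₂, w]))⁻¹ := fun ψ w => by
    rw [MonObj.comp_mul, GrpObj.comp_inv, tmap_ev, tmap_ev]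
  have e : tmap t Ψ wΨ ≫ W * tmap t ψ₂ w₂' ≫ W = tmap t ψm wm' ≫ W := by
    rw [hWψ Ψ wΨ, hWψ ψ₂ w₂', hWψ ψm wm', d.ev_congr f hQ, d.ev_congr f hassoc, d.ev_congr f h₂]
    group
  have e₀ : d.ev f (φ := (d.inc ≫ d.p₁) ≫ mkA J₂) (d.p₁ ≫ mkA J₂) (Category.assoc _ _ _).symm *
      d.ev f (φ := (d.inc ≫ d.p₁) ≫ mkA J₂) (d.p₂ ≫ mkA J₂) (by rw [← Category.assoc, d.w₂]) =
      d.ev f (φ := (d.inc ≫ d.p₁) ≫ mkA J₂) (d.m ≫ mkA J₂) (by rw [← Category.assoc, d.wm]) := by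
    have h := hf (mkA J₂) fun a ha => Ideal.Quotient.eq_zero_iff_mem.mpr
      (Ideal.mem_map_of_mem _ (Ideal.mem_map_of_mem _ ha))
    have h' := congrArg (tmap t (𝟙 (CommRingCat.of (d.C₂ ⧸ J₂)))
      (φ' := (d.inc ≫ d.p₁) ≫ mkA J₂) (by rw [Category.comp_id, Category.assoc]) ≫ ·) h
    simp only [MonObj.comp_mul, tmap_ev, Category.comp_id] at h'
    exact h'.symm
  have hA := A₁.mul (φ := d.inc ≫ d.p₁) A₂
  have key : d.ev f' d.p₁ rfl * d.ev f' d.p₂ d.w₂ = d.ev f' d.m d.wm := by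
    apply Over.OverMorphism.ext
    refine IsAvg.unique ?_ Aₘ
    convert hA using 2
    · exact e.symm
    · exact e₀.symm
    · rfl
  intro E γ _
  have h := congrArg (tmap t γ (φ' := d.inc ≫ d.p₁ ≫ γ) (Category.assoc _ _ _) ≫ ·) key
  simp only [MonObj.comp_mul, tmap_ev] at h
  exact h.symm

end Coord

end Groth.Agent.Lib.MultAvg
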