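import Groth.Agent.Lib.MultAvg.Conj
import Groth.Agent.H87.CentralEq

/-!
# Families of homomorphisms modulo a nilpotent ideal and their lifts over split charts
-/

set_option autoImplicit false
universe u

open CategoryTheory MonoidalCategory CartesianMonoidalCategory MonObj GrpObj AlgebraicGeometry
open CategoryTheory.Limits
open Groth.Agent.H87 Groth.Agent.H87.HomDS Groth.Agent.Lib.RedPts
open Groth.Agent.H87.CentralEq (lo lo_injective lo_surjective lo_mul lo_comp dsFn_lo evalAt charOf rho)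
open Groth.Agent.H87.Locus (toG)

namespace Groth.Agent.Lib.MultAvg

set_option linter.style.haveILetI false

theorem charOf_dsPt {A : CommRingCat.{u}} {M : Type} [AddCommGroup M] (X : Over (Spec A))
    (χ : Multiplicative M →* Γ(X.left, ⊤)) : charOf (Gm.dsPt (X := X) χ) = χ :=
  MonoidHom.ext fun m => Gm.dsFn_dsPt χ m.toAdd

theorem rho_of_hom_eq {A R : CommRingCat.{u}} (p : Spec R ⟶ Spec A) (φ : A ⟶ R) (hp : p = Spec.map φ)
    (a : A) : rho (Over.mk p) a = (Scheme.ΓSpecIso R).inv.hom (φ.hom a) := by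
  subst hp
  show (Spec.map φ).appTop ((Scheme.ΓSpecIso A).inv a) = _
  rw [appTop_SpecMap_apply, Iso.inv_hom_id_apply]
  rfl

/-- Homomorphisms between diagonalisable groups are determined modulo a nilpotent ideal. -/
theorem ds_hom_eq {A A₀ : CommRingCat.{u}} (π : A ⟶ A₀)
    (hnil : ∀ z ∈ RingHom.ker π.hom, IsNilpotent z) {M N : Type} [AddCommGroup M] [AddCommGroup N]
    (v w : Red.DS (Spec A) M ⟶ Red.DS (Spec A) N) [IsMonHom v] [IsMonHom w]
    (h : ∀ (X : Over (Spec A₀)) (x : (Over.map (Spec.map π)).obj X ⟶ Red.DS (Spec A) M),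
      x ≫ v = x ≫ w) : v = w := by
  let z : (Red.DS (Spec A) M ⟶ Red.DS (Spec A) N) → N → MonoidAlgebra A (Multiplicative M) := fun f n =>
    (Scheme.ΓSpecIso (ring M)).hom (Red.gmFn (univPt (𝟙 (Spec A)) M ≫ f ≫ Red.chi (Spec A) n))
  have hz : ∀ (f : Red.DS (Spec A) M ⟶ Red.DS (Spec A) N) {X : Over (Spec A)}
      (x : X ⟶ Red.DS (Spec A) M) (n : N), Gm.dsFn (x ≫ f) n = evalAt X (charOf x) (z f n) :=
    fun f X x n => by
      rw [← Gm.gmFn_chi, Category.assoc]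
      exact CentralEq.gmFn_eq_evalAt (f ≫ Red.chi (Spec A) n) x
  let U₀ := test (𝟙 (Spec A₀)) (CommRingCat.ofHom MonoidAlgebra.singleOneRingHom : A₀ ⟶ ring M)
  let T₀ := (Over.map (Spec.map π)).obj U₀
  let χ : Multiplicative M →* Γ(T₀.left, ⊤) :=
    (toG (ring M)).comp (MonoidAlgebra.of A₀ (Multiplicative M))
  let x₀ : T₀ ⟶ Red.DS (Spec A) M := Gm.dsPt (X := T₀) χ
  let ρ₀ : MonoidAlgebra A₀ (Multiplicative M) →+* Γ(T₀.left, ⊤) :=
    ((Scheme.ΓSpecIso (ring M)).inv.hom :)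
  have hinj : Function.Injective ρ₀ := toG_injective (ring (A := A₀) M)
  have hm : charOf x₀ = χ := charOf_dsPt T₀ χ
  have hT : T₀.hom = Spec.map (π ≫ CommRingCat.ofHom (MonoidAlgebra.singleOneRingHom :
      A₀ →+* MonoidAlgebra A₀ (Multiplicative M))) := by
    show (Spec.map _ ≫ 𝟙 _) ≫ Spec.map π = _
    rw [Category.comp_id, ← Spec.map_comp]
  have hev : ∀ f : MonoidAlgebra A (Multiplicative M),
      evalAt T₀ (charOf x₀) f = ρ₀ (MonoidAlgebra.mapRingHom (Multiplicative M) π.hom f) := by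
    intro f
    induction f using MonoidAlgebra.induction_linear with
    | zero => rw [map_zero, map_zero, map_zero]
    | add a b ha hb => rw [map_add, map_add, map_add, ha, hb]
    | single m a =>
      rw [CentralEq.evalAt_single, MonoidAlgebra.mapRingHom_single, hm]
      have ha : rho T₀ a = ρ₀ (MonoidAlgebra.single 1 (π.hom a)) :=
        rho_of_hom_eq (R := ring M) T₀.hom _ hT a
      rw [ha]
      show ρ₀ _ * ρ₀ (MonoidAlgebra.single m 1) = _
      rw [← map_mul, MonoidAlgebra.single_mul_single, _root_.one_mul, _root_.mul_one]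
  refine (Category.id_comp v).symm.trans (Eq.trans ?_ (Category.id_comp w))
  refine Gm.dsFn_ext fun n => ?_
  rw [hz, hz]
  congr 1
  refine GroupLike.eq_of_map_eq π.hom hnil (CentralEq.isGL_of_hom (v ≫ Red.chi (Spec A) n))
    (CentralEq.isGL_of_hom (w ≫ Red.chi (Spec A) n)) ?_
  apply hinj
  rw [← hev, ← hev]
  show evalAt _ (charOf x₀) (z v n) = evalAt _ (charOf x₀) (z w n)
  rw [← hz, ← hz, h U₀ x₀]

variable {A : CommRingCat.{u}} {H H' : Over (Spec A)} [GrpObj H] [GrpObj H']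

/-- A natural family of homomorphisms over `Spec D`. -/
structure HFam (H H' : Over (Spec A)) [GrpObj H] [GrpObj H'] {D : CommRingCat.{u}} (φ : A ⟶ D) where
  /-- the map on points -/
  app : ∀ (Y : Over (Spec A)) (_ : Y ⟶ test (𝟙 (Spec A)) φ) (_ : Y ⟶ H), Y ⟶ H'
  nat : ∀ {Y Y' : Over (Spec A)} (r : Y' ⟶ Y) (p : Y ⟶ test (𝟙 (Spec A)) φ) (h : Y ⟶ H),
    app Y' (r ≫ p) (r ≫ h) = r ≫ app Y p h
  mul : ∀ {Y : Over (Spec A)} (p : Y ⟶ test (𝟙 (Spec A)) φ) (h h' : Y ⟶ H),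
    app Y p (h * h') = app Y p h * app Y p h'

variable {J : Ideal A} (Φ : HFam H H' (mkA J))

/-- A family over `Spec D` lifting `Φ`. -/
def HFam.IsLift {D : CommRingCat.{u}} {φ : A ⟶ D} (Ψ : HFam H H' φ) : Prop :=
  ∀ (Y : Over (Spec A)) (p : Y ⟶ test (𝟙 (Spec A)) φ) (q : Y ⟶ test (𝟙 (Spec A)) (mkA J))
    (h : Y ⟶ H), Ψ.app Y p h = Φ.app Y q h

/-- Restriction of a family. -/
noncomputable def HFam.res {D E : CommRingCat.{u}} {φ : A ⟶ D} {ψ : A ⟶ E} (Ψ : HFam H H' φ)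
    (g : D ⟶ E) (hg : φ ≫ g = ψ) : HFam H H' ψ where
  app Y p h := Ψ.app Y (p ≫ tmap (𝟙 (Spec A)) g hg) h
  nat r p h := by rw [Category.assoc]; exact Ψ.nat r _ h
  mul p h h' := Ψ.mul _ h h'

theorem HFam.IsLift.res {D E : CommRingCat.{u}} {φ : A ⟶ D} {ψ : A ⟶ E} {Ψ : HFam H H' φ}
    (hΨ : HFam.IsLift Φ Ψ) (g : D ⟶ E) (hg : φ ≫ g = ψ) : HFam.IsLift Φ (Ψ.res g hg) :=
  fun Y p q h => hΨ Y _ q h

section Split

variable {D : CommRingCat.{u}} (φ : A ⟶ D) (hJ : IsNilpotent J) {M M' : Type} [AddCommGroup M]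
  [AddCommGroup M']
  (e : Grp.mk (Red.bc (Spec.map φ ≫ 𝟙 (Spec A)) H) ≅ Grp.mk (Red.DS (Spec D) M))
  (e' : Grp.mk (Red.bc (Spec.map φ ≫ 𝟙 (Spec A)) H') ≅ Grp.mk (Red.DS (Spec D) M'))

local notation "τ" => (Spec.map φ ≫ 𝟙 (Spec A))

/-- A test object over `Spec D`, seen over `Spec A`. -/
noncomputable def into {Y : Over (Spec A)} (p : Y ⟶ test (𝟙 (Spec A)) φ) :
    Y ⟶ (Over.map τ).obj (Over.mk p.left) :=
  Over.homMk (𝟙 Y.left) (by
    show 𝟙 Y.left ≫ p.left ≫ τ = Y.hom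
    rw [Category.id_comp]
    exact Over.w p)

/-- Inverse of `into`. -/
noncomputable def back {Y : Over (Spec A)} (p : Y ⟶ test (𝟙 (Spec A)) φ) :
    (Over.map τ).obj (Over.mk p.left) ⟶ Y :=
  Over.homMk (𝟙 Y.left) (by
    show 𝟙 Y.left ≫ Y.hom = p.left ≫ τ
    rw [Category.id_comp]
    exact (Over.w p).symm)

theorem into_back {Y : Over (Spec A)} (p : Y ⟶ test (𝟙 (Spec A)) φ) : into φ p ≫ back φ p = 𝟙 Y :=
  Over.OverMorphism.ext (Category.id_comp _)

/-- The structure point of a test object. -/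
noncomputable def strPt (X : Over (Spec D)) : (Over.map τ).obj X ⟶ test (𝟙 (Spec A)) φ :=
  Over.homMk X.hom (by show X.hom ≫ Spec.map φ ≫ 𝟙 _ = X.hom ≫ τ; rfl)

/-- Read a point of `H` in the chart. -/
noncomputable def toDS {Y : Over (Spec A)} (p : Y ⟶ test (𝟙 (Spec A)) φ) (h : Y ⟶ H) :
    Over.mk p.left ⟶ Red.DS (Spec D) M :=
  BC.up τ (back φ p ≫ h) ≫ e.hom.hom.hom

theorem down_toDS {Y : Over (Spec A)} (p : Y ⟶ test (𝟙 (Spec A)) φ) (h : Y ⟶ H) :
    into φ p ≫ BC.down τ (toDS φ e p h ≫ e.inv.hom.hom) = h := by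
  have he : e.hom.hom.hom ≫ e.inv.hom.hom = 𝟙 (Red.bc τ H) := congrArg (fun m => m.hom.hom) e.hom_inv_id
  rw [toDS, Category.assoc, he, Category.comp_id (BC.up τ (back φ p ≫ h))]
  rw [BC.down_up, ← Category.assoc, into_back,
    Category.id_comp]

/-- The universal value of a family in the charts. -/
noncomputable def dsOf (Ψ : HFam H H' φ) : Red.DS (Spec D) M ⟶ Red.DS (Spec D) M' :=
  BC.up τ (Ψ.app _ (strPt φ (Red.DS (Spec D) M)) (BC.down τ e.inv.hom.hom)) ≫ e'.hom.hom.hom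

theorem app_down {Ψ : HFam H H' φ} {X : Over (Spec D)} (x : X ⟶ Red.DS (Spec D) M) :
    Ψ.app _ (strPt φ X) (BC.down τ (x ≫ e.inv.hom.hom)) =
      BC.down τ (x ≫ dsOf φ e e' Ψ ≫ e'.inv.hom.hom) := by
  have he : e'.hom.hom.hom ≫ e'.inv.hom.hom = 𝟙 (Red.bc τ H') := congrArg (fun m => m.hom.hom) e'.hom_inv_id
  have hp : strPt φ X = (Over.map τ).map x ≫ strPt φ (Red.DS (Spec D) M) :=
    Over.OverMorphism.ext (Over.w x).symm
  rw [dsOf, Category.assoc, he, Category.comp_id (BC.up τ _)]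
  rw [BC.down_comp, BC.down_comp, BC.down_up, hp]
  exact Ψ.nat _ _ _

theorem app_eq {Ψ : HFam H H' φ} {Y : Over (Spec A)} (p : Y ⟶ test (𝟙 (Spec A)) φ) (h : Y ⟶ H) :
    Ψ.app Y p h = into φ p ≫ BC.down τ (toDS φ e p h ≫ dsOf φ e e' Ψ ≫ e'.inv.hom.hom) := by
  rw [← app_down, ← Ψ.nat, down_toDS]
  congr 1
  all_goals (apply Over.OverMorphism.ext; exact (Category.id_comp _).symm)

theorem isMonHom_dsOf (Ψ : HFam H H' φ) : IsMonHom (dsOf φ e e' Ψ) := by
  haveI : IsMonHom e.inv.hom.hom := e.inv.hom.isMonHom_hom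
  haveI : IsMonHom e'.inv.hom.hom := e'.inv.hom.isMonHom_hom
  haveI : IsIso e'.inv.hom.hom := Tori.BaseChange.isIso_hom e'.symm
  refine isMonHom_of_points _ fun X a b => ?_
  rw [← cancel_mono e'.inv.hom.hom, Category.assoc, MonObj.mul_comp _ _ e'.inv.hom.hom,
    Category.assoc, Category.assoc]
  apply BC.down_injective
  rw [BC.down_mul, ← app_down, ← app_down, ← app_down, MonObj.mul_comp _ _ e.inv.hom.hom,
    BC.down_mul, Ψ.mul]

/-- Reduction of a test object over the reduced base. -/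
noncomputable def modPt (X : Over (Spec (CommRingCat.of (D ⧸ J.map φ.hom)))) :
    (Over.map τ).obj ((Over.map (Spec.map (mkA (J.map φ.hom)))).obj X) ⟶
      test (𝟙 (Spec A)) (mkA J) :=
  Over.homMk (X.hom ≫ Spec.map (inc₀ φ J)) (by
    show (X.hom ≫ Spec.map (inc₀ φ J)) ≫ Spec.map (mkA J) ≫ 𝟙 _ =
      (X.hom ≫ Spec.map (mkA (J.map φ.hom))) ≫ Spec.map φ ≫ 𝟙 _
    simp only [Category.comp_id, Category.assoc, ← Spec.map_comp]
    rfl)

include hJ in
theorem ker_nilpotent : ∀ z ∈ RingHom.ker (mkA (J.map φ.hom)).hom, IsNilpotent z := fun z hz => by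
  obtain ⟨n, hn⟩ := hJ
  refine ⟨n, ?_⟩
  have h := Ideal.pow_mem_pow (show z ∈ J.map φ.hom from Ideal.Quotient.eq_zero_iff_mem.mp hz) n
  rw [← Ideal.map_pow, hn, Ideal.zero_eq_bot, Ideal.map_bot] at h
  exact h

include hJ e e' in
/-- Lifts over a split chart are unique. -/
theorem HFam.IsLift.eq_of_split {Ψ Ψ' : HFam H H' φ} (hΨ : HFam.IsLift Φ Ψ)
    (hΨ' : HFam.IsLift Φ Ψ') (Y : Over (Spec A)) (p : Y ⟶ test (𝟙 (Spec A)) φ) (h : Y ⟶ H) :
    Ψ.app Y p h = Ψ'.app Y p h := by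
  haveI : IsIso e'.inv.hom.hom := Tori.BaseChange.isIso_hom e'.symm
  haveI := isMonHom_dsOf φ e e' Ψ
  haveI := isMonHom_dsOf φ e e' Ψ'
  have hv : dsOf φ e e' Ψ = dsOf φ e e' Ψ' :=
    ds_hom_eq (mkA (J.map φ.hom)) (ker_nilpotent φ hJ) _ _ fun X x => by
      rw [← cancel_mono e'.inv.hom.hom, Category.assoc, Category.assoc]
      apply BC.down_injective
      rw [← app_down, ← app_down, hΨ _ _ (modPt φ X), hΨ' _ _ (modPt φ X)]
  rw [app_eq φ e e', app_eq φ e e', hv]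

include hJ e e' in
/-- Lifts over a split chart exist. -/
theorem exists_lift_of_split : ∃ Ψ : HFam H H' φ, HFam.IsLift Φ Ψ := by
  let π := mkA (J.map φ.hom)
  let π' := Spec.map π
  let D₀ := Red.DS (Spec (CommRingCat.of (D ⧸ J.map φ.hom))) M
  haveI : IsMonHom e.inv.hom.hom := e.inv.hom.isMonHom_hom
  haveI : IsMonHom e.hom.hom.hom := e.hom.hom.isMonHom_hom
  haveI : IsMonHom e'.inv.hom.hom := e'.inv.hom.isMonHom_hom
  haveI : IsIso e'.inv.hom.hom := Tori.BaseChange.isIso_hom e'.symm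
  have he' : e'.hom.hom.hom ≫ e'.inv.hom.hom = 𝟙 (Red.bc τ H') := congrArg (fun m => m.hom.hom) e'.hom_inv_id
  obtain ⟨v₀, hv₀⟩ := lo_surjective π' (BC.up τ (Φ.app _ (modPt φ D₀)
    (BC.down τ (lo π' (𝟙 D₀) ≫ e.inv.hom.hom))) ≫ e'.hom.hom.hom)
  have key : ∀ {X : Over (Spec (CommRingCat.of (D ⧸ J.map φ.hom)))} (x : X ⟶ D₀),
      BC.down τ (lo π' (x ≫ v₀) ≫ e'.inv.hom.hom) =
        Φ.app _ (modPt φ X) (BC.down τ (lo π' x ≫ e.inv.hom.hom)) := by
    intro X x
    have hp : modPt φ X = (Over.map τ).map ((Over.map π').map x) ≫ modPt φ D₀ :=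
      Over.OverMorphism.ext (by
        show X.hom ≫ _ = x.left ≫ D₀.hom ≫ _
        rw [← Category.assoc, Over.w x])
    rw [show lo π' x = lo π' (x ≫ 𝟙 D₀) by rw [Category.comp_id], lo_comp, lo_comp, hv₀,
      Category.assoc, Category.assoc, Category.assoc, he']
    rw [Category.comp_id (BC.up τ _)]
    rw [BC.down_comp, BC.down_comp, BC.down_up, hp]
    exact (Φ.nat _ _ _).symm
  haveI : IsMonHom v₀ := isMonHom_of_points v₀ fun X a b => by
    apply lo_injective π'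
    rw [lo_mul, ← cancel_mono e'.inv.hom.hom, MonObj.mul_comp _ _ e'.inv.hom.hom]
    apply BC.down_injective
    rw [BC.down_mul, key, key, key, lo_mul, MonObj.mul_comp _ _ e.inv.hom.hom, BC.down_mul, Φ.mul]
  obtain ⟨v, hv, hvlo⟩ := CentralEq.exists_lift π Ideal.Quotient.mk_surjective (ker_nilpotent φ hJ) v₀
  let Ψ : HFam H H' φ :=
    { app := fun Y p h => into φ p ≫ BC.down τ (toDS φ e p h ≫ v ≫ e'.inv.hom.hom)
      nat := fun {Y Y'} r p h => by
        let r' : Over.mk (r ≫ p).left ⟶ Over.mk p.left := Over.homMk r.left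
        have h1 : into φ (r ≫ p) ≫ (Over.map τ).map r' = r ≫ into φ p :=
          Over.OverMorphism.ext ((Category.id_comp _).trans (Category.comp_id _).symm)
        have h2 : (Over.map τ).map r' ≫ back φ p = back φ (r ≫ p) ≫ r :=
          Over.OverMorphism.ext ((Category.comp_id _).trans (Category.id_comp _).symm)
        have h3 : toDS φ e (r ≫ p) (r ≫ h) = r' ≫ toDS φ e p h := by
          rw [toDS, toDS, ← Category.assoc r']
          congr 1
          apply BC.down_injective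
          rw [BC.down_comp, BC.down_up, BC.down_up, reassoc_of% h2]
        rw [h3, Category.assoc, BC.down_comp, reassoc_of% h1]
      mul := fun {Y} p h h' => by
        haveI : IsMonHom e.hom.hom.hom := e.hom.hom.isMonHom_hom
        have h3 : toDS φ e p (h * h') = toDS φ e p h * toDS φ e p h' := by
          rw [toDS, toDS, toDS, MonObj.comp_mul, BC.up_mul]
          exact MonObj.mul_comp _ _ e.hom.hom.hom
        haveI : IsMonHom (v ≫ e'.inv.hom.hom) := inferInstance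
        rw [h3, MonObj.mul_comp _ _ (v ≫ e'.inv.hom.hom), BC.down_mul, MonObj.comp_mul] }
  refine ⟨Ψ, fun Y p q h => ?_⟩
  have hker : ∀ z ∈ J.map φ.hom, ((Scheme.ΓSpecIso D).inv ≫ p.left.appTop).hom z = 0 := by
    have hpq : φ ≫ (Scheme.ΓSpecIso D).inv ≫ p.left.appTop =
        mkA J ≫ (Scheme.ΓSpecIso _).inv ≫ q.left.appTop := by
      rw [Scheme.ΓSpecIso_inv_naturality_assoc, Scheme.ΓSpecIso_inv_naturality_assoc,
        ← Scheme.Hom.comp_appTop, ← Scheme.Hom.comp_appTop]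
      have h1 := (Over.w p).trans (Over.w q).symm
      simp only [Over.mk_hom, Category.comp_id] at h1
      rw [h1]
    intro z hz
    refine RingHom.mem_ker.mp ((Ideal.map_le_iff_le_comap.mpr fun a ha => ?_) hz)
    rw [Ideal.mem_comap, RingHom.mem_ker]
    refine (congr((CommRingCat.Hom.hom $hpq) a)).trans ?_
    show ((Scheme.ΓSpecIso _).inv ≫ q.left.appTop).hom (Ideal.Quotient.mk J a) = 0
    rw [Ideal.Quotient.eq_zero_iff_mem.mpr ha, map_zero]
  let X : Over (Spec (CommRingCat.of (D ⧸ J.map φ.hom))) := Over.mk (Y.left.toSpecΓ ≫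
    Spec.map (CommRingCat.ofHom (Ideal.Quotient.lift _ ((Scheme.ΓSpecIso D).inv ≫ p.left.appTop).hom hker)))
  have hX : X.hom ≫ π' = p.left := by
    show (Y.left.toSpecΓ ≫ Spec.map _) ≫ Spec.map π = p.left
    rw [Category.assoc, ← Spec.map_comp]
    have : π ≫ CommRingCat.ofHom (Ideal.Quotient.lift _ ((Scheme.ΓSpecIso D).inv ≫ p.left.appTop).hom hker) =
        (Scheme.ΓSpecIso D).inv ≫ p.left.appTop :=
      CommRingCat.hom_ext (Ideal.Quotient.lift_comp_mk _ _ hker)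
    rw [this, Spec.map_comp, ← Scheme.toSpecΓ_naturality_assoc]
    have h2 : (Spec D).toSpecΓ ≫ Spec.map (Scheme.ΓSpecIso D).inv = 𝟙 (Spec D) :=
      toSpecΓ_SpecMap_ΓSpecIso_inv D
    exact (congrArg (p.left ≫ ·) h2).trans (Category.comp_id p.left)
  let ε : (Over.map π').obj X ⟶ Over.mk p.left := Over.homMk (𝟙 Y.left) (by
    show 𝟙 Y.left ≫ p.left = X.hom ≫ π'
    rw [Category.id_comp, hX])
  let ε' : Over.mk p.left ⟶ (Over.map π').obj X := Over.homMk (𝟙 Y.left) (by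
    show 𝟙 Y.left ≫ X.hom ≫ π' = p.left
    rw [Category.id_comp, hX])
  have hεε : ε' ≫ ε = 𝟙 _ := Over.OverMorphism.ext (Category.id_comp _)
  obtain ⟨x, hx⟩ := lo_surjective π' (ε ≫ toDS φ e p h)
  let b : Y ⟶ (Over.map τ).obj ((Over.map π').obj X) := into φ p ≫ (Over.map τ).map ε'
  show into φ p ≫ BC.down τ (toDS φ e p h ≫ v ≫ e'.inv.hom.hom) = _
  have h1 : toDS φ e p h ≫ v = ε' ≫ lo π' (x ≫ v₀) := by
    rw [← hvlo, hx, Category.assoc ε, reassoc_of% hεε]
  rw [← Category.assoc (toDS φ e p h), h1, Category.assoc, BC.down_comp, key, ← Category.assoc,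
    ← Φ.nat]
  congr 1
  · haveI : IsClosedImmersion (Spec.map (mkA J)) :=
      IsClosedImmersion.spec_of_surjective _ Ideal.Quotient.mk_surjective
    apply Over.OverMorphism.ext
    rw [← cancel_mono (Spec.map (mkA J))]
    have w1 := Over.w (b ≫ modPt φ X)
    have w2 := Over.w q
    simp only [Over.mk_hom, Category.comp_id] at w1 w2
    exact w1.trans w2.symm
  · rw [hx, Category.assoc, ← BC.down_comp, ← Category.assoc ε', ← Category.assoc ε', hεε, Category.id_comp, down_toDS]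

end Split

end Groth.Agent.Lib.MultAvg
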