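import Groth.Agent.Lib.MultAvg.Coord
import Groth.Agent.Lib.MultSmooth.HomLift
import Groth.Agent.Lib.RedPts.BC

/-!
# The invariant integral of a split group
-/

set_option autoImplicit false
universe u

open CategoryTheory MonoidalCategory CartesianMonoidalCategory MonObj GrpObj AlgebraicGeometry
open CategoryTheory.Limits TensorProduct
open Groth.Agent.H87.HomDS Groth.Agent.Lib.RedPts Groth.Agent.Lib.MultSmooth

namespace Groth.Agent.Lib.MultAvg

set_option linter.style.haveILetI false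

variable {S : Scheme.{u}} {H : Over S} [GrpObj H] {A : CommRingCat.{u}} {t : Spec A ⟶ S}

theorem integral_swap {A : Type u} [CommRing A] {N : Type} [CommGroup N] (x y : MonoidAlgebra A N) :
    integral (ev2 A N (MonoidHom.inr N N) x * ev2 A N (MonoidHom.inl N N) y) =
      MonoidAlgebra.single 1 (x.coeff 1) * y := by
  rw [_root_.mul_comm, integral_inl_mul, integral_inr, _root_.mul_comm]

theorem coeff_single_mul {A : Type u} [CommRing A] {N : Type} [CommGroup N] (a : A)
    (x : MonoidAlgebra A N) : (MonoidAlgebra.single (1 : N) a * x).coeff 1 = a * x.coeff 1 := by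
  classical
  induction x using MonoidAlgebra.induction_linear with
  | zero => simp
  | add x y hx hy => rw [_root_.mul_add, MonoidAlgebra.coeff_add, Finsupp.add_apply, hx, hy,
      MonoidAlgebra.coeff_add, Finsupp.add_apply, _root_.mul_add]
  | single n b =>
    simp [Finsupp.single_apply]

namespace Coord

variable (d : Coord t H)

/-- The integral of a group split over an algebra. -/
theorem exists_isIntegral_of_split (B : CommRingCat.{u}) [Algebra A B] {M : Type} [AddCommGroup M]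
    (e : Grp.mk (Red.bc (Spec.map (CommRingCat.ofHom (algebraMap A B)) ≫ t) H) ≅
      Grp.mk (Red.DS (Spec B) M)) :
    ∃ f : d.C →ₗ[A] B, d.IsIntegral f := by
  let φ : A ⟶ B := CommRingCat.ofHom (algebraMap A B)
  let τ : Spec B ⟶ S := Spec.map φ ≫ t
  let R : CommRingCat.{u} := ring (A := B) M
  let R₂ : CommRingCat.{u} := CommRingCat.of (MonoidAlgebra B (Multiplicative M × Multiplicative M))
  let iB : B ⟶ R := CommRingCat.ofHom MonoidAlgebra.singleOneRingHom
  let iB₂ : B ⟶ R₂ := CommRingCat.ofHom MonoidAlgebra.singleOneRingHom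
  let T := test (𝟙 (Spec B)) iB
  haveI : IsMonHom e.inv.hom.hom := e.inv.hom.isMonHom_hom
  let pt : (Over.map τ).obj T ⟶ H := BC.down τ (univPt (𝟙 (Spec B)) M ≫ e.inv.hom.hom)
  -- coordinates of the universal point
  obtain ⟨r, hr, hr'⟩ := d.fac _ (Spec.map iB ≫ Spec.map φ)
    (show (Spec.map iB ≫ Spec.map φ) ≫ t = (Spec.map iB ≫ 𝟙 _) ≫ τ by simp [τ]) pt
  let θ : d.C ⟶ R := Spec.preimage r.left
  have hθA : d.inc ≫ θ = φ ≫ iB := by
    apply Spec.map_injective
    rw [Spec.map_comp, Spec.map_comp]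
    simp only [θ, Spec.map_preimage]
    exact hr'
  have hθ : Spec.map θ ≫ d.univ.left = pt.left := by
    simp only [θ, Spec.map_preimage]
    exact congrArg CommaMorphism.left hr
  let N := Multiplicative M
  let i₁ : R ⟶ R₂ := CommRingCat.ofHom (ev2 B N (MonoidHom.inl N N))
  let i₂ : R ⟶ R₂ := CommRingCat.ofHom (ev2 B N (MonoidHom.inr N N))
  let dg : R ⟶ R₂ := CommRingCat.ofHom (ev2 B N (MonoidHom.prod (MonoidHom.id N) (MonoidHom.id N)))
  have hiB : ∀ g : N →* N × N, iB ≫ CommRingCat.ofHom (ev2 B N g) = iB₂ := fun g => by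
    refine CommRingCat.hom_ext (RingHom.ext fun b => ?_)
    show ev2 B N g (MonoidAlgebra.single 1 b) = MonoidAlgebra.single 1 b
    rw [ev2_single, map_one]
  obtain ⟨r₁, r₂, r₁₂, hu, hu₁, hu₂, hu'⟩ := univ_mul (𝟙 (Spec B)) M
  -- the product of two copies of the universal point
  have key : ∀ (a b : R ⟶ R₂) (ra rb : test (𝟙 (Spec B)) iB₂ ⟶ T), ra.left = Spec.map a →
      rb.left = Spec.map b → iB ≫ a = iB₂ → iB ≫ b = iB₂ →
      r₁₂ ≫ univPt (𝟙 (Spec B)) M = (ra ≫ univPt (𝟙 (Spec B)) M) * (rb ≫ univPt (𝟙 (Spec B)) M) →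
      ∀ (W : d.C₂ ⟶ R₂), d.p₁ ≫ W = θ ≫ a → d.p₂ ≫ W = θ ≫ b → d.m ≫ W = θ ≫ dg := by
    intro a b ra rb hra hrb ha hb hab W hW₁ hW₂
    have hWA : d.inc ≫ d.p₁ ≫ W = φ ≫ iB₂ := by
      rw [hW₁, reassoc_of% hθA, ha]
    let Y := (Over.map τ).obj (test (𝟙 (Spec B)) iB₂)
    have hY : Spec.map W ≫ Spec.map (d.inc ≫ d.p₁) ≫ t = Y.hom := by
      show _ = (Spec.map iB₂ ≫ 𝟙 _) ≫ τ
      rw [← Spec.map_comp_assoc, Category.assoc d.inc d.p₁ W, hWA, Spec.map_comp]
      simp [τ]
    let γ : Y ⟶ test t (d.inc ≫ d.p₁) := Over.homMk (Spec.map W) hY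
    have h1 := congrArg (γ ≫ ·) d.mul_eq
    simp only [MonObj.comp_mul] at h1
    have ea : γ ≫ tmap t d.p₁ rfl ≫ d.univ = BC.down τ ((ra ≫ univPt (𝟙 (Spec B)) M) ≫ e.inv.hom.hom) := by
      rw [Category.assoc, BC.down_comp]
      apply Over.OverMorphism.ext
      show Spec.map W ≫ Spec.map d.p₁ ≫ d.univ.left = ra.left ≫ pt.left
      rw [← Spec.map_comp_assoc, hW₁, Spec.map_comp_assoc, hθ, hra]
    have eb : γ ≫ tmap t d.p₂ d.w₂ ≫ d.univ = BC.down τ ((rb ≫ univPt (𝟙 (Spec B)) M) ≫ e.inv.hom.hom) := by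
      rw [Category.assoc, BC.down_comp]
      apply Over.OverMorphism.ext
      show Spec.map W ≫ Spec.map d.p₂ ≫ d.univ.left = rb.left ≫ pt.left
      rw [← Spec.map_comp_assoc, hW₂, Spec.map_comp_assoc, hθ, hrb]
    rw [ea, eb, ← BC.down_mul, ← MonObj.mul_comp _ _ e.inv.hom.hom, ← hab, Category.assoc, BC.down_comp] at h1
    refine d.uniq _ _ ?_ ?_
    · have h2 : Spec.map W ≫ Spec.map d.m ≫ d.univ.left = r₁₂.left ≫ pt.left :=
        congrArg CommaMorphism.left h1
      rw [Spec.map_comp_assoc, Spec.map_comp_assoc, hθ, h2]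
      congr 1
    · rw [reassoc_of% d.wm, hWA, reassoc_of% hθA, hiB]
  have hl₁ : ∀ g : N →* N × N, Spec.map (Groth.Agent.H87.Locus.ev (CommRingCat.ofHom MonoidAlgebra.singleOneRingHom)
      ((MonoidAlgebra.of B (N × N)).comp g)) = Spec.map (CommRingCat.ofHom (ev2 B N g) : R ⟶ R₂) :=
    fun g => rfl
  -- the functional
  have hlin : ∀ (a : A) (c : d.C), θ.hom (d.inc.hom a * c) =
      MonoidAlgebra.single 1 (φ.hom a) * θ.hom c := fun a c => by
    rw [map_mul]
    congr 1
    exact congr((CommRingCat.Hom.hom $hθA) a)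
  let f : d.C →ₗ[A] B :=
    { toFun := fun c => (θ.hom c : MonoidAlgebra B N).coeff 1
      map_add' := fun x y => by
        rw [map_add θ.hom]
        erw [MonoidAlgebra.coeff_add, Finsupp.add_apply]
      map_smul' := fun a x => by
        rw [Algebra.smul_def, RingHom.id_apply, Algebra.smul_def]
        show (θ.hom (d.inc.hom a * x) : MonoidAlgebra B N).coeff 1 = _
        rw [hlin]
        exact coeff_single_mul _ _ }
  have hf1 : f 1 = 1 := by
    show (θ.hom 1 : MonoidAlgebra B N).coeff 1 = 1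
    rw [map_one θ.hom]
    show (1 : MonoidAlgebra B N).coeff 1 = 1
    rw [MonoidAlgebra.one_def, MonoidAlgebra.coeff_single, Finsupp.single_eq_same]
  -- the comparison `B ⊗ C ⟶ B[M]` is injective
  let aB : B →ₐ[A] MonoidAlgebra B N := IsScalarTower.toAlgHom A B (MonoidAlgebra B N)
  let aC : d.C →ₐ[A] MonoidAlgebra B N :=
    { (θ.hom : d.C →+* MonoidAlgebra B N) with
      commutes' := fun a => congr((CommRingCat.Hom.hom $hθA) a) }
  let Θ : B ⊗[A] d.C →ₐ[A] MonoidAlgebra B N := Algebra.TensorProduct.lift aB aC fun _ _ => Commute.all _ _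
  have hΘ : Function.Injective Θ := by
    let BC' : CommRingCat.{u} := CommRingCat.of (B ⊗[A] d.C)
    let il : B ⟶ BC' := CommRingCat.ofHom
      (Algebra.TensorProduct.includeLeft (R := A) (S := A) (A := B) (B := d.C)).toRingHom
    let ir : d.C ⟶ BC' := CommRingCat.ofHom
      (Algebra.TensorProduct.includeRight (R := A) (A := B) (B := d.C)).toRingHom
    have hlr : d.inc ≫ ir = φ ≫ il := by
      refine CommRingCat.hom_ext (RingHom.ext fun a => ?_)
      show (1 : B) ⊗ₜ[A] (algebraMap A d.C a) = (algebraMap A B a) ⊗ₜ[A] (1 : d.C)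
      rw [← Algebra.TensorProduct.algebraMap_apply, ← Algebra.TensorProduct.algebraMap_apply']
    let X₀ := (Over.map τ).obj (test (𝟙 (Spec B)) il)
    let h₀ : X₀ ⟶ H := Over.homMk (Spec.map ir ≫ d.univ.left) (by
      show (Spec.map ir ≫ d.univ.left) ≫ H.hom = (Spec.map il ≫ 𝟙 _) ≫ τ
      rw [Category.assoc, Over.w d.univ]
      show Spec.map ir ≫ Spec.map d.inc ≫ t = _
      rw [← Spec.map_comp_assoc, hlr, Spec.map_comp]
      simp [τ])
    obtain ⟨s, hs⟩ := exists_fac (𝟙 (Spec B)) M (test (𝟙 (Spec B)) il).hom (Category.comp_id _)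
      (BC.up τ h₀ ≫ e.hom.hom.hom)
    let ψ : R ⟶ BC' := Spec.preimage s.left
    have hψ : iB ≫ ψ = il := by
      apply Spec.map_injective
      rw [Spec.map_comp]
      simp only [ψ, Spec.map_preimage]
      have := Over.w s
      simpa [test] using this
    have hθψ : θ ≫ ψ = ir := by
      refine d.uniq _ _ ?_ ?_
      · rw [Spec.map_comp_assoc, hθ]
        simp only [ψ, Spec.map_preimage]
        have h1 : (Over.map τ).map s ≫ pt = h₀ := by
          have he : e.hom.hom.hom ≫ e.inv.hom.hom = 𝟙 _ := congrArg (fun m => m.hom.hom) e.hom_inv_id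
          show (Over.map τ).map s ≫ BC.down τ _ = h₀
          rw [← BC.down_comp, reassoc_of% hs, he, Category.comp_id, BC.down_up]
        exact congrArg CommaMorphism.left h1
      · rw [reassoc_of% hθA, hψ, hlr]
    have hinv : ∀ x, ψ.hom (Θ x) = x := fun x => by
      induction x using TensorProduct.induction_on with
      | zero => simp
      | add x y hx hy => rw [map_add, map_add, hx, hy]
      | tmul b c =>
        simp only [Θ, Algebra.TensorProduct.lift_tmul, map_mul]
        show (iB ≫ ψ).hom b * (θ ≫ ψ).hom c = _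
        rw [hψ, hθψ]
        show (b ⊗ₜ[A] (1 : d.C)) * ((1 : B) ⊗ₜ[A] c) = _
        rw [Algebra.TensorProduct.tmul_mul_tmul, _root_.mul_one, _root_.one_mul]
    exact Function.LeftInverse.injective hinv
  -- the two maps `C ⊗ C ⟶ B[M × M]`
  have halg : ∀ g : N →* N × N, ∀ a : A,
      ev2 B N g (θ.hom (algebraMap A d.C a)) = algebraMap A (MonoidAlgebra B (N × N)) a := fun g a =>
    (congrArg (ev2 B N g) (congr((CommRingCat.Hom.hom $hθA) a))).trans
      (congr((CommRingCat.Hom.hom $(hiB g)) (φ.hom a)))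
  let θ₁ : d.C →ₐ[A] MonoidAlgebra B (N × N) := { ((θ ≫ i₁).hom : d.C →+* MonoidAlgebra B (N × N)) with commutes' := halg _ }
  let θ₂ : d.C →ₐ[A] MonoidAlgebra B (N × N) := { ((θ ≫ i₂).hom : d.C →+* MonoidAlgebra B (N × N)) with commutes' := halg _ }
  let W : d.C₂ ⟶ R₂ := CommRingCat.ofHom (Algebra.TensorProduct.lift θ₁ θ₂ fun _ _ => Commute.all _ _).toRingHom
  let W' : d.C₂ ⟶ R₂ := CommRingCat.ofHom (Algebra.TensorProduct.lift θ₂ θ₁ fun _ _ => Commute.all _ _).toRingHom
  have hp : ∀ (a b : d.C →ₐ[A] MonoidAlgebra B (N × N)),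
      d.p₁ ≫ CommRingCat.ofHom (Algebra.TensorProduct.lift a b fun _ _ => Commute.all _ _).toRingHom =
        CommRingCat.ofHom a.toRingHom ∧
      d.p₂ ≫ CommRingCat.ofHom (Algebra.TensorProduct.lift a b fun _ _ => Commute.all _ _).toRingHom =
        CommRingCat.ofHom b.toRingHom := fun a b => by
    constructor <;> ext c <;> simp [Coord.p₁, Coord.p₂]
  have hr₁ : r₁.left = Spec.map i₁ := hu₁.trans (hl₁ _)
  have hr₂ : r₂.left = Spec.map i₂ := hu₂.trans (hl₁ _)
  have hW : d.m ≫ W = θ ≫ dg :=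
    key i₁ i₂ r₁ r₂ hr₁ hr₂ (hiB _) (hiB _) hu W (hp θ₁ θ₂).1 (hp θ₁ θ₂).2
  have hW' : d.m ≫ W' = θ ≫ dg :=
    key i₂ i₁ r₂ r₁ hr₂ hr₁ (hiB _) (hiB _) (hu.trans (ds_comm _ _)) W' (hp θ₂ θ₁).1 (hp θ₂ θ₁).2
  have hint : ∀ c, integral ((θ ≫ dg).hom c) = MonoidAlgebra.single 1 (f c) := fun c =>
    integral_diag (θ.hom c)
  refine ⟨f, hf1, fun c => hΘ ?_, fun c => ?_⟩
  · have h : ∀ z, Θ (f.rTensor d.C z) = integral (W'.hom z) := fun z => by
      induction z using TensorProduct.induction_on with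
      | zero => simp
      | add x y hx hy => simp only [map_add, hx, hy]
      | tmul x y =>
        show Θ (f x ⊗ₜ[A] y) = integral (ev2 B N (MonoidHom.inr N N) (θ.hom x) *
          ev2 B N (MonoidHom.inl N N) (θ.hom y))
        rw [integral_swap, Algebra.TensorProduct.lift_tmul]
        rfl
    rw [h, show W'.hom (d.m.hom c) = (θ ≫ dg).hom c from congr((CommRingCat.Hom.hom $hW') c), hint,
      Algebra.TensorProduct.lift_tmul, map_one, _root_.mul_one]
    rfl
  · refine ((Algebra.TensorProduct.comm A d.C B).injective.comp Function.injective_id) (hΘ ?_)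
    have h : ∀ z, Θ (Algebra.TensorProduct.comm A d.C B (f.lTensor d.C z)) = integral (W.hom z) := fun z => by
      induction z using TensorProduct.induction_on with
      | zero => simp
      | add x y hx hy => simp only [map_add, hx, hy]
      | tmul x y =>
        show Θ (f y ⊗ₜ[A] x) = integral (ev2 B N (MonoidHom.inl N N) (θ.hom x) *
          ev2 B N (MonoidHom.inr N N) (θ.hom y))
        rw [integral_inl_mul, integral_inr, _root_.mul_comm, Algebra.TensorProduct.lift_tmul]
        rfl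
    simp only [Function.comp_apply, id_eq]
    rw [h, show W.hom (d.m.hom c) = (θ ≫ dg).hom c from congr((CommRingCat.Hom.hom $hW) c), hint,
      Algebra.TensorProduct.comm_tmul, Algebra.TensorProduct.lift_tmul, map_one, _root_.mul_one]
    rfl

end Coord

end Groth.Agent.Lib.MultAvg
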